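import Cfsg.Agent.Lib.OrthField.Common
import Cfsg.Agent.Lib.AutPSL.LocalCore
import Cfsg.Agent.Lib.OrthOmega.Simple

/-!
Centralisers of field automorphisms of orthogonal groups: the rational subgroup and what commutes
with it.
-/

set_option autoImplicit false

namespace Cfsg.Agent.Lib.OrthBalance

open Module QuadraticMap Cfsg.Agent.Lib.Forms Cfsg.Agent.Lib.OrthOmega Cfsg.Agent.Lib.AutPOmega
open Cfsg.Agent.Lib.OrthField
open scoped Matrix commutatorElement

variable {F : Type*} [Field F] [Finite F] {ι : Type} [Fintype ι] [DecidableEq ι]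
  {f : (ι → F) → F} (D : OF f)

/-- Every automorphism is a similarity times a field automorphism fixing the form. -/
theorem exists_decomp (h8 : NoTriality D.Q) (hfix : ∀ σ : F ≃+* F, Fixes f σ)
    (β : MulAut (Cfsg.POmega F f)) :
    ∃ (g : GS f) (σ : F ≃+* F), β = D.conjQ g * D.fieldQ σ (hfix σ) := by
  obtain ⟨S, rfl⟩ := D.exists_semisim h8 β
  have hg : S.mat ∈ GS f := ⟨Units.mk0 S.c S.c_ne, fun v => by
    have hv : v = fun i => S.τ (S.τ.symm (v i)) := funext fun i => (S.τ.apply_symm_apply _).symm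
    conv_rhs => rw [hv, hfix S.τ]
    rw [Semisim.mat_mulVec, D.hf, S.map_Q', ← D.hf]
    rfl⟩
  refine ⟨⟨S.mat, hg⟩, S.τ, D.toPG'.injective ?_⟩
  rw [MulEquiv.apply_symm_apply, map_mul, D.toPG_conjQ, D.toPG_fieldQ, ← Semisim.aut_mul]
  refine D.aut_congr fun v => ?_
  show _ = (D.ofGS ⟨S.mat, hg⟩).toAdd ((D.fieldS S.τ (hfix S.τ)).toAdd v)
  rw [D.ofGS_apply, D.fieldS_apply]
  exact (S.mat_apply v).symm

variable {F₀ : Type*} [Field F₀] [Finite F₀] {ι₀ : Type} [Fintype ι₀] [DecidableEq ι₀]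
  {f₀ : (ι₀ → F₀) → F₀} (D₀ : OF f₀) {σ : F ≃+* F} {j : F₀ →+* F}
  (X : Rat (1 : GS f) σ j f₀)

/-- The rational vectors. -/
noncomputable def rv (v : ι₀ → F₀) : ι → F := X.h (⇑j ∘ v)

omit [Finite F₀] in
theorem rv_add (u v : ι₀ → F₀) : rv X (u + v) = rv X u + rv X v := by
  rw [rv, rv, rv, ← map_add]; congr 1; funext i; exact map_add j _ _

omit [Finite F₀] in
theorem rv_smul (t : F₀) (v : ι₀ → F₀) : rv X (t • v) = j t • rv X v := by
  rw [rv, rv, ← map_smul]; congr 1; funext i; exact map_mul j _ _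

omit [Finite F₀] in
theorem rv_sub (u v : ι₀ → F₀) : rv X (u - v) = rv X u - rv X v := by
  rw [rv, rv, rv, ← map_sub]; congr 1; funext i; exact map_sub j _ _

theorem Q_rv (v : ι₀ → F₀) : D.Q (rv X v) = X.w * j (D₀.Q v) := Q_h D D₀ X v

theorem polar_rv (u v : ι₀ → F₀) : polar D.Q (rv X u) (rv X v) = X.w * j (polar D₀.Q u v) := by
  simp only [polar, ← rv_add, Q_rv D D₀ X, map_sub]
  ring

omit [Finite F₀] in
theorem rv_eq_zero {v : ι₀ → F₀} (h : rv X v = 0) : v = 0 := by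
  have h1 : ⇑j ∘ v = 0 := X.h.injective (h.trans (map_zero _).symm)
  funext i
  exact j.injective ((congrFun h1 i).trans (map_zero j).symm)

theorem embO_rv (o : orth D₀.Q) (v : ι₀ → F₀) :
    (embO D D₀ X o).1 (rv X v) = rv X (o.1 v) := by
  show ((emb D D₀ X (D₀.iso o)).1 : Matrix ι ι F) *ᵥ X.h (⇑j ∘ v) = _
  rw [emb_apply]
  congr 1
  funext i
  rw [← RingHom.map_mulVec, D₀.iso_apply]
  rfl

/-- A rational Siegel transformation moves vectors inside the span of its two vectors. -/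
theorem embO_rho_sub_mem {e u : ι₀ → F₀} (hu : SPair D₀.Q e u) (y : ι → F) :
    (embO D D₀ X (rho hu)).1 y - y ∈ Submodule.span F ({rv X e, rv X u} : Set (ι → F)) := by
  set L : (ι → F) →ₗ[F] (ι → F) := (embO D D₀ X (rho hu)).1.toLinearMap - LinearMap.id
  have htop : (⊤ : Submodule F (ι → F)) ≤ (Submodule.span F ({rv X e, rv X u} : Set (ι → F))).comap L := by
    rw [← ((Pi.basisFun F ι₀).map X.h).span_eq, Submodule.span_le]
    rintro _ ⟨i, rfl⟩
    rw [Basis.map_apply, Pi.basisFun_apply, ← comp_single j i]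
    show (embO D D₀ X (rho hu)).1 (rv X (Pi.single i 1)) - rv X (Pi.single i 1) ∈
      Submodule.span F ({rv X e, rv X u} : Set (ι → F))
    rw [embO_rv D D₀ X, rho_apply, rv_sub, rv_add, rv_smul, rv_smul, add_sub_assoc,
      add_sub_cancel_left]
    exact sub_mem (Submodule.smul_mem _ _ (Submodule.subset_span (by simp)))
      (Submodule.smul_mem _ _ (Submodule.subset_span (by simp)))
  exact htop (Submodule.mem_top (x := y))

/-- What commutes with the rational `EG` maps rational singular vectors into their lines. -/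
theorem map_rv_singular (S : Semisim D.Q) (h7 : 7 ≤ finrank F₀ (ι₀ → F₀))
    (hS : ∀ o ∈ EG D₀.Q, ∀ y, S.toAdd ((embO D D₀ X o).1 y) = (embO D D₀ X o).1 (S.toAdd y))
    {e : ι₀ → F₀} (he0 : e ≠ 0) (he : D₀.Q e = 0) : ∃ l : F, S.toAdd (rv X e) = l • rv X e := by
  obtain ⟨f', hp⟩ := exists_hypPair D₀.nd he0 he
  have hfr := hp.finrank_core
  obtain ⟨⟨u, hu⟩, ⟨u', hu'⟩, hq⟩ := exists_hyp (hp.nondeg_core D₀.nd) (by omega)
  have q1 : D₀.Q u = 0 := hq.left
  have q2 : D₀.Q u' = 0 := hq.right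
  have q3 : polar D₀.Q u u' = 1 := (res_polar D₀.Q _ ⟨u, hu⟩ ⟨u', hu'⟩).symm.trans hq.pol
  have he1 := (mem_core.mp hu).1
  have he2 := (mem_core.mp hu').1
  have key : ∀ a b : ι₀ → F₀, polar D₀.Q e a = 0 → polar D₀.Q e b = 0 → polar D₀.Q a b = 1 →
      S.toAdd (rv X e) ∈ Submodule.span F ({rv X e, rv X a} : Set (ι → F)) := by
    intro a b ha hb hab
    have hsp : SPair D₀.Q e a := ⟨he, ha⟩
    have h1 := hS _ (rho_mem hsp) (rv X b)
    rw [embO_rv D D₀ X, rho_apply, hb, hab, mul_zero, add_zero, zero_smul, add_zero, one_smul,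
      rv_sub, map_sub] at h1
    have h3 := embO_rho_sub_mem D D₀ X hsp (S.toAdd (rv X b))
    rw [← h1, sub_sub_cancel_left] at h3
    exact neg_mem_iff.1 h3
  obtain ⟨a, b, hab⟩ := Submodule.mem_span_pair.1 (key u u' he1 he2 q3)
  obtain ⟨a', b', hab'⟩ := Submodule.mem_span_pair.1
    (key u' u he2 he1 (by rw [polar_comm]; exact q3))
  refine ⟨a, ?_⟩
  have h4 := congrArg (polar D.Q (rv X u')) (hab.trans hab'.symm)
  simp only [polar_add_right, polar_smul_right, polar_rv D D₀ X, smul_eq_mul] at h4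
  rw [polar_comm D₀.Q u' e, he2, polar_comm D₀.Q u' u, q3, polar_self', q2] at h4
  simp only [map_zero, mul_zero, map_one, mul_one, add_zero, zero_add] at h4
  have hb : b = 0 := (mul_eq_zero.1 h4).resolve_right X.hw
  rw [← hab, hb, zero_smul, add_zero]

/-- The rational `EG` as inner automorphisms. -/
noncomputable def ratEG : EG D₀.Q →* MulAut (Cfsg.POmega F f) :=
  ((D.conjQ.comp D.iso).comp (embO D D₀ X)).comp (EG D₀.Q).subtype

theorem ratEG_apply (o : EG D₀.Q) : ratEG D D₀ X o = D.conjQ (D.iso (embO D D₀ X o.1)) := rfl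

theorem embO_mem {o : orth D₀.Q} (ho : o ∈ EG D₀.Q) : embO D D₀ X o ∈ EG D.Q := by
  rw [← commutator_eq_EG D₀.nd D₀.h5'] at ho
  rw [← commutator_eq_EG D.nd D.h5']
  have h : (commutator (orth D₀.Q)).map (embO D D₀ X) ≤ commutator (orth D.Q) := by
    rw [commutator_def, commutator_def, Subgroup.map_commutator]
    exact Subgroup.commutator_mono le_top le_top
  exact h ⟨o, ho, rfl⟩

theorem ratEG_range_le_inn : (ratEG D D₀ X).range ≤ Cfsg.Inn (Cfsg.POmega F f) := by
  rintro _ ⟨o, rfl⟩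
  rw [D.inn_eq_map]
  exact ⟨_, ⟨_, (commutator_eq_EG D.nd D.h5').ge (embO_mem D D₀ X o.2), rfl⟩, rfl⟩

theorem ratEG_injective [Nonempty ι₀] (hz : Nat.card (Subgroup.center (EG D₀.Q)) = 1) :
    Function.Injective (ratEG D D₀ X) := by
  rw [injective_iff_map_eq_one]
  intro o ho
  rw [ratEG_apply, D.conjQ_eq_one_iff] at ho
  obtain ⟨z, hz'⟩ := ho
  rw [iso_embO] at hz'
  obtain ⟨z₀, hz₀⟩ := emb_eq_scal_iff D D₀ X hz'
  have hv : ∀ v, o.1.1 v = (z₀ : F₀) • v := fun v => by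
    rw [← D₀.coe_scal_mulVec, ← hz₀, D₀.iso_apply]
  have hc : (z₀ : F₀) * z₀ = 1 := by
    have h1 := congrArg D₀.mult hz₀
    rw [D₀.mult_iso, D₀.mult_scal] at h1
    rw [← Units.val_mul, ← h1, Units.val_one]
  have hmem : o ∈ Subgroup.center (EG D₀.Q) := by
    rw [mem_center_EG_iff D₀.nd D₀.h5']
    rcases mul_self_eq_one_iff.1 hc with h | h
    · exact Or.inl fun v => by rw [hv, h, one_smul]
    · exact Or.inr fun v => by rw [hv, h, neg_one_smul]
  rw [Subgroup.card_eq_one.1 hz] at hmem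
  exact Subgroup.mem_bot.1 hmem

theorem isSimpleGroup_EG_of_center (hz : Nat.card (Subgroup.center (EG D₀.Q)) = 1) :
    IsSimpleGroup (EG D₀.Q) := by
  have h := isSimpleGroup_EG D₀.nd D₀.h5'
  exact ((QuotientGroup.quotientMulEquivOfEq (Subgroup.card_eq_one.1 hz)).trans
    QuotientGroup.quotientBot).symm.isSimpleGroup

/-- A normal subgroup of order prime to `p` of the rational group is trivial. -/
theorem eq_bot_of_normal [Nonempty ι₀] (hz : Nat.card (Subgroup.center (EG D₀.Q)) = 1) {p : ℕ}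
    (hp : p ∣ Nat.card (EG D₀.Q)) (W : Subgroup (MulAut (Cfsg.POmega F f)))
    (hW : W ≤ (ratEG D D₀ X).range)
    (hn : ∀ k ∈ (ratEG D D₀ X).range, ∀ w ∈ W, k * w * k⁻¹ ∈ W) (hWp : ¬ p ∣ Nat.card W) :
    W = ⊥ := by
  have := isSimpleGroup_EG_of_center D₀ hz
  have hinj := ratEG_injective D D₀ X hz
  have : (W.comap (ratEG D D₀ X)).Normal := ⟨fun w hw k => by
    show ratEG D D₀ X (k * w * k⁻¹) ∈ W
    rw [map_mul, map_mul, map_inv]
    exact hn _ ⟨k, rfl⟩ _ hw⟩
  rcases Subgroup.Normal.eq_bot_or_eq_top this with h | h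
  · rw [eq_bot_iff]
    intro w hw
    obtain ⟨o, rfl⟩ := hW hw
    have ho : o ∈ W.comap (ratEG D D₀ X) := hw
    rw [h, Subgroup.mem_bot] at ho
    rw [ho, map_one]
    exact one_mem _
  · exfalso
    refine hWp (hp.trans ?_)
    rw [Nat.card_congr (MonoidHom.ofInjective hinj).toEquiv]
    exact Subgroup.card_dvd_of_le (by rintro _ ⟨o, rfl⟩; exact (h.ge (Subgroup.mem_top o) : _))

/-- A semisimilarity whose automorphism commutes with the rational group commutes with it on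
vectors. -/
theorem comm_of_commute (hz : Nat.card (Subgroup.center (EG D.Q)) = 1) (S : Semisim D.Q)
    (h : ∀ o, D.toPG'.symm S.aut * ratEG D D₀ X o = ratEG D D₀ X o * D.toPG'.symm S.aut)
    {o : orth D₀.Q} (ho : o ∈ EG D₀.Q) (y : ι → F) :
    S.toAdd ((embO D D₀ X o).1 y) = (embO D D₀ X o).1 (S.toAdd y) := by
  set k : EG D.Q := ⟨embO D D₀ X o, embO_mem D D₀ X ho⟩
  have h1 := congrArg D.toPG' (h ⟨o, ho⟩)
  rw [map_mul, map_mul, MulEquiv.apply_symm_apply, ratEG_apply, D.toPG_conjQ,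
    show (D.ofGS (D.iso (embO D D₀ X o))).aut = (Semisim.ofOrth k.1).aut from
      D.aut_congr fun v => D.iso_apply _ v, ← Semisim.conj_eq_aut] at h1
  have hc : ∀ x : PG D.Q, toP k * x * (toP k)⁻¹ = toP (S.egAut k) * x * (toP (S.egAut k))⁻¹ := by
    intro x
    obtain ⟨y, rfl⟩ := S.aut.surjective x
    have h3 := DFunLike.congr_fun h1 y
    rw [MulAut.mul_apply, MulAut.mul_apply, MulAut.conj_apply, MulAut.conj_apply, map_mul, map_mul,
      map_inv, S.aut_toP] at h3
    exact h3.symm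
  have hcen : (toP k)⁻¹ * toP (S.egAut k) ∈ Subgroup.center (PG D.Q) := by
    rw [Subgroup.mem_center_iff]
    intro x
    calc x * ((toP k)⁻¹ * toP (S.egAut k))
        = (toP k)⁻¹ * (toP k * x * (toP k)⁻¹) * toP (S.egAut k) := by group
      _ = (toP k)⁻¹ * (toP (S.egAut k) * x * (toP (S.egAut k))⁻¹) * toP (S.egAut k) := by rw [hc]
      _ = (toP k)⁻¹ * toP (S.egAut k) * x := by group
  have hsimple := isSimpleGroup_EG D.nd D.h5'
  have hbot : Subgroup.center (PG D.Q) = ⊥ := by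
    refine (Subgroup.Normal.eq_bot_or_eq_top inferInstance).resolve_right fun ht => ?_
    have hcomm : ∀ a b : EG D.Q, ⁅a, b⁆ ∈ Subgroup.center (EG D.Q) := fun a b => by
      rw [← QuotientGroup.eq_one_iff]
      show toP (a * b * a⁻¹ * b⁻¹) = 1
      rw [map_mul, map_mul, map_mul, map_inv, map_inv,
        Subgroup.mem_center_iff.1 (ht ▸ Subgroup.mem_top (toP b) : toP b ∈ Subgroup.center _) (toP a)]
      group
    have hle : ⁅EG D.Q, EG D.Q⁆ ≤ (⊥ : Subgroup (orth D.Q)) := by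
      rw [Subgroup.commutator_le]
      intro a ha b hb
      have := hcomm ⟨a, ha⟩ ⟨b, hb⟩
      rw [Subgroup.card_eq_one.1 hz, Subgroup.mem_bot] at this
      exact congrArg Subtype.val this
    rw [EG_perfect D.nd D.h5', le_bot_iff] at hle
    have : Subsingleton (EG D.Q) := ⟨fun a b => Subtype.ext (by
      rw [Subgroup.mem_bot.1 (hle ▸ a.2 : a.1 ∈ (⊥ : Subgroup (orth D.Q))),
        Subgroup.mem_bot.1 (hle ▸ b.2 : b.1 ∈ (⊥ : Subgroup (orth D.Q)))])⟩
    exact not_subsingleton (PG D.Q) (Quotient.instSubsingletonQuotient _)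
  rw [hbot, Subgroup.mem_bot, ← map_inv, ← map_mul] at hcen
  have h5 : k⁻¹ * S.egAut k ∈ Subgroup.center (EG D.Q) := (QuotientGroup.eq_one_iff _).1 hcen
  rw [Subgroup.card_eq_one.1 hz, Subgroup.mem_bot, inv_mul_eq_one] at h5
  have h6 := congrArg (fun z : orth D.Q => z.1 (S.toAdd y)) (congrArg Subtype.val h5)
  show S.toAdd (k.1.1 y) = k.1.1 (S.toAdd y)
  refine Eq.trans ?_ h6.symm
  show _ = S.toAdd (k.1.1 (S.toAdd.symm (S.toAdd y)))
  rw [S.toAdd.symm_apply_apply]

end Cfsg.Agent.Lib.OrthBalance
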