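import Cfsg.Agent.Lib.OrthBalance.Basic

/-!
The rational subgroup without assumptions on the centre.
-/

set_option autoImplicit false

namespace Cfsg.Agent.Lib.OrthBalance

open Module QuadraticMap Cfsg.Agent.Lib.Forms Cfsg.Agent.Lib.OrthOmega Cfsg.Agent.Lib.AutPOmega
open Cfsg.Agent.Lib.OrthField
open scoped Matrix commutatorElement

section PG

variable {F : Type*} [Field F] [Finite F] {V : Type*} [AddCommGroup V] [Module F V]
  [FiniteDimensional F V] {Q : QuadraticForm F V}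

/-- `EG Q` is not abelian modulo its centre. -/
theorem EG_le_center_false (hQ : Nondeg Q) (h5 : 5 ≤ finrank F V)
    (hne : (⊥ : Subgroup (orth Q)) ≠ EG Q) (h : ∀ a b : EG Q, a * b = b * a) : False := by
  refine hne (le_antisymm bot_le ?_)
  rw [← EG_perfect hQ h5, Subgroup.commutator_le]
  intro a ha b hb
  rw [Subgroup.mem_bot]
  have h1 : a * b = b * a := congrArg Subtype.val (h ⟨a, ha⟩ ⟨b, hb⟩)
  rw [commutatorElement_def, h1]
  group

theorem EG_ne_bot (hQ : Nondeg Q) (h5 : 5 ≤ finrank F V) : (⊥ : Subgroup (orth Q)) ≠ EG Q := by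
  intro h
  have := isSimpleGroup_EG hQ h5
  have : Subsingleton (EG Q) := ⟨fun a b => Subtype.ext (by
    have ha := a.2
    have hb := b.2
    simp only [← h, Subgroup.mem_bot] at ha hb
    rw [ha, hb])⟩
  exact not_subsingleton (PG Q) (Quotient.instSubsingletonQuotient _)

theorem center_PG_eq_bot (hQ : Nondeg Q) (h5 : 5 ≤ finrank F V) :
    Subgroup.center (PG Q) = ⊥ := by
  have hsimple := isSimpleGroup_EG hQ h5
  refine (Subgroup.Normal.eq_bot_or_eq_top inferInstance).resolve_right fun ht => ?_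
  have hcomm : ∀ a b : EG Q, a * b * a⁻¹ * b⁻¹ ∈ Subgroup.center (EG Q) := fun a b => by
    rw [← QuotientGroup.eq_one_iff]
    show toP (a * b * a⁻¹ * b⁻¹) = 1
    rw [map_mul, map_mul, map_mul, map_inv, map_inv,
      Subgroup.mem_center_iff.1 (ht ▸ Subgroup.mem_top (toP b) : toP b ∈ Subgroup.center _) (toP a)]
    group
  refine EG_le_center_false hQ h5 (EG_ne_bot hQ h5) fun a b => ?_
  have ha : a ∈ Subgroup.center (EG Q) := by
    have hle : ⁅EG Q, EG Q⁆ ≤ (Subgroup.center (EG Q)).map (EG Q).subtype := by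
      rw [Subgroup.commutator_le]
      intro u hu v hv
      exact ⟨_, hcomm ⟨u, hu⟩ ⟨v, hv⟩, rfl⟩
    rw [EG_perfect hQ h5] at hle
    obtain ⟨c, hc, he⟩ := hle a.2
    exact (Subtype.ext he : c = a) ▸ hc
  exact (Subgroup.mem_center_iff.1 ha b).symm

end PG

variable {F : Type*} [Field F] [Finite F] {ι : Type} [Fintype ι] [DecidableEq ι]
  {f : (ι → F) → F} (D : OF f)

include D in
theorem center_pOmega_eq_bot : Subgroup.center (Cfsg.POmega F f) = ⊥ := by
  rw [eq_bot_iff]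
  intro z hz
  rw [Subgroup.mem_bot]
  refine (pOmegaEquiv D.Q D.nd D.h5' D.hf).injective ?_
  rw [map_one, ← Subgroup.mem_bot, ← center_PG_eq_bot D.nd D.h5', Subgroup.mem_center_iff]
  intro y
  obtain ⟨w, rfl⟩ := (pOmegaEquiv D.Q D.nd D.h5' D.hf).surjective y
  rw [← map_mul, ← map_mul, Subgroup.mem_center_iff.1 hz w]

variable {F₀ : Type*} [Field F₀] [Finite F₀] {ι₀ : Type} [Fintype ι₀] [DecidableEq ι₀]
  [Nonempty ι₀] {f₀ : (ι₀ → F₀) → F₀} (D₀ : OF f₀) {σ : F ≃+* F} {j : F₀ →+* F}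
  (X : Rat (1 : GS f) σ j f₀)

theorem ker_ratEG_le_center : (ratEG D D₀ X).ker ≤ Subgroup.center (EG D₀.Q) := by
  intro o ho
  rw [MonoidHom.mem_ker, ratEG_apply, D.conjQ_eq_one_iff] at ho
  obtain ⟨z, hz'⟩ := ho
  rw [iso_embO] at hz'
  obtain ⟨z₀, hz₀⟩ := emb_eq_scal_iff D D₀ X hz'
  have hv : ∀ v, o.1.1 v = (z₀ : F₀) • v := fun v => by
    rw [← D₀.coe_scal_mulVec, ← hz₀, D₀.iso_apply]
  have hc : (z₀ : F₀) * z₀ = 1 := by
    have h1 := congrArg D₀.mult hz₀
    rw [D₀.mult_iso, D₀.mult_scal] at h1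
    rw [← Units.val_mul, ← h1, Units.val_one]
  rw [mem_center_EG_iff D₀.nd D₀.h5']
  rcases mul_self_eq_one_iff.1 hc with h | h
  · exact Or.inl fun v => by rw [hv, h, one_smul]
  · exact Or.inr fun v => by rw [hv, h, neg_one_smul]

theorem ratEG_center {o : EG D₀.Q} (ho : o ∈ Subgroup.center (EG D₀.Q)) :
    ratEG D D₀ X o = 1 := by
  rw [mem_center_EG_iff D₀.nd D₀.h5'] at ho
  obtain ⟨z, hz⟩ : ∃ z : F₀ˣ, D₀.iso o.1 = D₀.scal z := by
    rcases ho with h | h
    · exact ⟨1, D₀.ext_mulVec fun v => by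
        rw [D₀.iso_apply, D₀.coe_scal_mulVec, h, Units.val_one, one_smul]⟩
    · exact ⟨-1, D₀.ext_mulVec fun v => by
        rw [D₀.iso_apply, D₀.coe_scal_mulVec, h, Units.val_neg, Units.val_one, neg_one_smul]⟩
  rw [ratEG_apply, iso_embO, hz, emb_scal, D.conjQ_scal]

theorem ratEG_range_ne_bot : (ratEG D D₀ X).range ≠ ⊥ := by
  intro h
  rw [MonoidHom.range_eq_bot_iff] at h
  refine EG_le_center_false D₀.nd D₀.h5' (EG_ne_bot D₀.nd D₀.h5') fun a b => ?_
  have ha : a ∈ Subgroup.center (EG D₀.Q) :=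
    ker_ratEG_le_center D D₀ X (by rw [h]; rfl)
  exact (Subgroup.mem_center_iff.1 ha b).symm

/-- A normal subgroup of order prime to `p` of the rational group is trivial. -/
theorem eq_bot_of_normal' {p : ℕ} (hp : p ∣ Nat.card (ratEG D D₀ X).range)
    (W : Subgroup (MulAut (Cfsg.POmega F f))) (hW : W ≤ (ratEG D D₀ X).range)
    (hn : ∀ k ∈ (ratEG D D₀ X).range, ∀ w ∈ W, k * w * k⁻¹ ∈ W) (hWp : ¬ p ∣ Nat.card W) :
    W = ⊥ := by
  have hsimple := isSimpleGroup_EG D₀.nd D₀.h5'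
  have hN : (W.comap (ratEG D D₀ X)).Normal := ⟨fun w hw k => by
    show ratEG D D₀ X (k * w * k⁻¹) ∈ W
    rw [map_mul, map_mul, map_inv]
    exact hn _ ⟨k, rfl⟩ _ hw⟩
  haveI : ((W.comap (ratEG D D₀ X)).map (toP (Q := D₀.Q))).Normal :=
    hN.map _ toP_surj
  rcases Subgroup.Normal.eq_bot_or_eq_top
    (inferInstance : ((W.comap (ratEG D D₀ X)).map (toP (Q := D₀.Q))).Normal) with h | h
  · rw [eq_bot_iff]
    intro w hw
    obtain ⟨o, rfl⟩ := hW hw
    rw [Subgroup.mem_bot]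
    refine ratEG_center D D₀ X ?_
    rw [← QuotientGroup.eq_one_iff, ← Subgroup.mem_bot, ← h]
    exact ⟨o, hw, rfl⟩
  · refine absurd (hp.trans (Subgroup.card_dvd_of_le ?_)) hWp
    rintro _ ⟨o, rfl⟩
    obtain ⟨u, hu, he⟩ := h.ge (Subgroup.mem_top (toP o))
    have hc : u⁻¹ * o ∈ Subgroup.center (EG D₀.Q) := QuotientGroup.eq.1 he
    have h1 := ratEG_center D D₀ X hc
    rw [map_mul, map_inv, inv_mul_eq_one] at h1
    rw [← h1]
    exact hu

set_option maxHeartbeats 2000000 in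
/-- A semisimilarity whose automorphism commutes with the rational group commutes with it on
vectors. -/
theorem comm_of_commute' (S : Semisim D.Q)
    (h : ∀ o, D.toPG'.symm S.aut * ratEG D D₀ X o = ratEG D D₀ X o * D.toPG'.symm S.aut)
    {o : orth D₀.Q} (ho : o ∈ EG D₀.Q) (y : ι → F) :
    S.toAdd ((embO D D₀ X o).1 y) = (embO D D₀ X o).1 (S.toAdd y) := by
  obtain ⟨e, he'⟩ : ∃ e : EG D₀.Q →* EG D.Q, ∀ o, (e o).1 = embO D D₀ X o.1 :=
    ⟨((embO D D₀ X).comp (EG D₀.Q).subtype).codRestrict _ fun o => embO_mem D D₀ X o.2, fun _ => rfl⟩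
  have hcen : ∀ o, (e o)⁻¹ * S.egAut (e o) ∈ Subgroup.center (EG D.Q) := by
    intro o
    set k := e o
    have h1 := congrArg D.toPG' (h o)
    rw [map_mul, map_mul, MulEquiv.apply_symm_apply, ratEG_apply, D.toPG_conjQ,
      show (D.ofGS (D.iso (embO D D₀ X o.1))).aut = (Semisim.ofOrth k.1).aut from
        D.aut_congr fun v => (D.iso_apply _ v).trans (by rw [← he']; rfl), ← Semisim.conj_eq_aut] at h1
    have hc : ∀ x : PG D.Q, toP k * x * (toP k)⁻¹ = toP (S.egAut k) * x * (toP (S.egAut k))⁻¹ := by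
      intro x
      obtain ⟨y, rfl⟩ := S.aut.surjective x
      have h3 := DFunLike.congr_fun h1 y
      rw [MulAut.mul_apply, MulAut.mul_apply, MulAut.conj_apply, MulAut.conj_apply, map_mul, map_mul,
        map_inv, S.aut_toP] at h3
      exact h3.symm
    have hcen : (toP k)⁻¹ * toP (S.egAut k) ∈ Subgroup.center (PG D.Q) := by
      rw [Subgroup.mem_center_iff]
      intro x
      calc x * ((toP k)⁻¹ * toP (S.egAut k))
          = (toP k)⁻¹ * (toP k * x * (toP k)⁻¹) * toP (S.egAut k) := by group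
        _ = (toP k)⁻¹ * (toP (S.egAut k) * x * (toP (S.egAut k))⁻¹) * toP (S.egAut k) := by rw [hc]
        _ = (toP k)⁻¹ * toP (S.egAut k) * x := by group
    have hbot : Subgroup.center (PG D.Q) = ⊥ := center_PG_eq_bot (Q := D.Q) D.nd D.h5'
    have h5 : toP k⁻¹ * toP (S.egAut k) = 1 := by
      rw [map_inv]
      exact Subgroup.mem_bot.1 (hbot.le hcen)
    rw [← map_mul] at h5
    exact (QuotientGroup.eq_one_iff _).1 h5
  -- the fixed points form a subgroup containing all commutators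
  let H : Subgroup (EG D₀.Q) :=
    { carrier := {o | S.egAut (e o) = e o}
      one_mem' := by simp
      mul_mem' := fun {u v} hu hv => by
        simp only [Set.mem_setOf_eq, map_mul] at hu hv ⊢; rw [hu, hv]
      inv_mem' := fun {u} hu => by
        simp only [Set.mem_setOf_eq, map_inv] at hu ⊢; rw [hu] }
  have hle : ⁅EG D₀.Q, EG D₀.Q⁆ ≤ H.map (EG D₀.Q).subtype := by
    rw [Subgroup.commutator_le]
    intro u hu v hv
    refine ⟨⁅(⟨u, hu⟩ : EG D₀.Q), ⟨v, hv⟩⁆, ?_, rfl⟩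
    show S.egAut (e ⁅_, _⁆) = e ⁅_, _⁆
    set a := e ⟨u, hu⟩ with ha
    set b := e ⟨v, hv⟩ with hb
    have ca : ∀ x, Commute (a⁻¹ * S.egAut a) x := fun x =>
      (Subgroup.mem_center_iff.1 (hcen ⟨u, hu⟩) x).symm
    have cb : ∀ x, Commute (b⁻¹ * S.egAut b) x := fun x =>
      (Subgroup.mem_center_iff.1 (hcen ⟨v, hv⟩) x).symm
    rw [commutatorElement_def, map_mul, map_mul, map_mul, map_inv, map_inv, ← ha, ← hb, map_mul,
      map_mul, map_mul, map_inv, map_inv,
      show S.egAut a = a * (a⁻¹ * S.egAut a) by group,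
      show S.egAut b = b * (b⁻¹ * S.egAut b) by group]
    set z := a⁻¹ * S.egAut a
    set w := b⁻¹ * S.egAut b
    calc a * z * (b * w) * (a * z)⁻¹ * (b * w)⁻¹
        = a * (z * (b * w)) * z⁻¹ * a⁻¹ * w⁻¹ * b⁻¹ := by group
      _ = a * (b * w * z) * z⁻¹ * a⁻¹ * w⁻¹ * b⁻¹ := by rw [(ca (b * w)).eq]
      _ = a * b * (w * a⁻¹) * w⁻¹ * b⁻¹ := by group
      _ = a * b * (a⁻¹ * w) * w⁻¹ * b⁻¹ := by rw [(cb a⁻¹).eq]
      _ = a * b * a⁻¹ * b⁻¹ := by group
  rw [EG_perfect D₀.nd D₀.h5'] at hle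
  obtain ⟨o', ho', he⟩ := hle ho
  have heo : o' = ⟨o, ho⟩ := Subtype.ext he
  subst heo
  have h6 := congrArg (fun z : EG D.Q => z.1.1 (S.toAdd y)) (ho' : S.egAut (e _) = e _)
  simp only [Semisim.egAut_val, Semisim.conjO_apply, he', AddEquiv.symm_apply_apply] at h6
  exact h6

/-- The inner-diagonal centraliser normalises the rational group. -/
theorem normalizes' (y : GS f₀) (o : EG D₀.Q) :
    D.conjQ (emb D D₀ X y) * ratEG D D₀ X o * (D.conjQ (emb D D₀ X y))⁻¹ =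
      ratEG D D₀ X ((D₀.ofGS y).egAut o) := by
  have h1 : y * D₀.iso o.1 * y⁻¹ = D₀.iso ((D₀.ofGS y).egAut o).1 := D₀.ext_mulVec fun v => by
    obtain ⟨w, rfl⟩ : ∃ w, (y.1 : Matrix ι₀ ι₀ F₀) *ᵥ w = v :=
      ⟨((y⁻¹ : GS f₀).1 : Matrix ι₀ ι₀ F₀) *ᵥ v, by
        rw [Matrix.mulVec_mulVec, ← Units.val_mul, ← Subgroup.coe_mul, mul_inv_cancel,
          Subgroup.coe_one, Units.val_one, Matrix.one_mulVec]⟩
    rw [Matrix.mulVec_mulVec, ← Units.val_mul, ← Subgroup.coe_mul, inv_mul_cancel_right,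
      Subgroup.coe_mul, Units.val_mul, ← Matrix.mulVec_mulVec, D₀.iso_apply, D₀.iso_apply,
      Semisim.egAut_val, Semisim.conjO_apply, ← D₀.ofGS_apply y w, AddEquiv.symm_apply_apply,
      D₀.ofGS_apply]
  rw [ratEG_apply, ratEG_apply, iso_embO, iso_embO, ← map_inv, ← map_mul, ← map_mul, ← map_inv,
    ← map_mul, ← map_mul, h1]

/-- Fourth powers of the rational similarities are rational inner automorphisms. -/
theorem pow_four_mem (y : GS f₀) :
    D.conjQ (emb D D₀ X y) ^ 4 ∈ (ratEG D D₀ X).range := by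
  obtain ⟨u, hu⟩ := D₀.exists_scal_iso (g := y * y) (z := D₀.mult y) (map_mul _ _ _)
  have h1 : y ^ 4 = D₀.scal (D₀.mult y * D₀.mult y) * D₀.iso (u * u) := by
    rw [show (4 : ℕ) = 2 * 2 from rfl, pow_mul, _root_.sq, _root_.sq, hu, map_mul, map_mul,
      mul_assoc, mul_assoc, ← mul_assoc (D₀.iso u), ← (D₀.scal_comm (D₀.mult y) (D₀.iso u)).eq,
      mul_assoc]
  have hmem : u * u ∈ EG D₀.Q := by
    rw [← commutator_eq_EG D₀.nd D₀.h5', ← Abelianization.ker_of, MonoidHom.mem_ker]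
    have hsq : ∀ w ∈ Subgroup.closure (reflSet D₀.Q),
        Abelianization.of w * Abelianization.of w = 1 := by
      intro w hw
      induction hw using Subgroup.closure_induction with
      | mem r hr => obtain ⟨v, -, rfl⟩ := hr; exact abelianization_orefl_sq v
      | one => simp
      | mul u v _ _ hu hv => rw [map_mul, mul_mul_mul_comm, hu, hv, one_mul]
      | inv u _ hu => rw [map_inv, ← _root_.mul_inv_rev, hu, inv_one]
    rw [map_mul]
    exact hsq u (by rw [closure_reflSet D₀.nd D₀.hne4]; trivial)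
  refine ⟨⟨u * u, hmem⟩, ?_⟩
  rw [ratEG_apply, iso_embO, ← map_pow, ← map_pow, h1, map_mul (emb D D₀ X), map_mul D.conjQ,
    emb_scal, D.conjQ_scal, one_mul]

end Cfsg.Agent.Lib.OrthBalance
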