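import Cfsg.Agent.Lib.OrthBalance.Rigid
import Cfsg.Agent.Lib.AutPSL.LocalCore
import Mathlib.Algebra.QuadraticAlgebra.Basic

/-!
The centraliser of an improper similarity involution of an orthogonal group of even dimension has no
nontrivial normal subgroup of odd order.
-/

set_option autoImplicit false

namespace Cfsg.Agent.Lib.OrthBalance

open Module QuadraticMap Cfsg.Agent.Lib.Forms Cfsg.Agent.Lib.OrthOmega Cfsg.Agent.Lib.AutPOmega

/-! ### General facts -/

section General

variable {F : Type*} [Field F] [Finite F] {V : Type*} [AddCommGroup V] [Module F V]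
  [FiniteDimensional F V] {Q : QuadraticForm F V}

omit [Finite F] [FiniteDimensional F V] in
theorem aut_congr' {S T : Semisim Q} (h : ∀ v, S.toAdd v = T.toAdd v) : S.aut = T.aut := by
  have : S.toAdd = T.toAdd := AddEquiv.ext h
  refine Semisim.aut_ext fun g => ?_
  rw [S.aut_toP, T.aut_toP]
  congr 1
  refine Subtype.ext (orth_ext fun v => ?_)
  show S.toAdd (g.1.1 (S.toAdd.symm v)) = T.toAdd (g.1.1 (T.toAdd.symm v))
  rw [this]

theorem aut_eq_one_of_smul (hQ : Nondeg Q) (h7 : 7 ≤ finrank F V) {S : Semisim Q} {t : F}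
    (ht : t ≠ 0) (h : ∀ v, S.toAdd v = t • v) : S.aut = 1 := by
  obtain ⟨p, hchar⟩ := CharP.exists F
  have : Fact p.Prime := ⟨CharP.char_is_prime F p⟩
  rw [aut_congr' (T := Semisim.scalar (Units.mk0 t ht)) h]
  exact MonoidHom.mem_ker.1 ((AutPOmega.ker_autHom p hQ h7).ge ⟨_, rfl⟩)

theorem aut_eq_aut (hQ : Nondeg Q) (h7 : 7 ≤ finrank F V) {A B : Semisim Q} (h : A.aut = B.aut) :
    ∃ t : F, t ≠ 0 ∧ ∀ v, B.toAdd v = t • A.toAdd v := by
  obtain ⟨p, hchar⟩ := CharP.exists F
  have : Fact p.Prime := ⟨CharP.char_is_prime F p⟩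
  have hk : A⁻¹ * B ∈ (Semisim.autHom (Q := Q)).ker := by
    rw [MonoidHom.mem_ker, map_mul, map_inv, inv_mul_eq_one]; exact h
  rw [AutPOmega.ker_autHom p hQ h7] at hk
  obtain ⟨l, hl⟩ := hk
  refine ⟨A.τ l, (map_ne_zero A.τ).2 l.ne_zero, fun v => ?_⟩
  have h1 := congrArg (fun S : Semisim Q => A.toAdd (S.toAdd v)) hl
  simp only [Semisim.scalar_toAdd, Semisim.mul_toAdd, Semisim.inv_toAdd,
    AddEquiv.apply_symm_apply] at h1
  rw [← h1, A.map_smul']

/-- The action of an isometry on `PG Q`. -/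
def autO (Q : QuadraticForm F V) : orth Q →* MulAut (PG Q) :=
  Semisim.autHom.comp Semisim.orthHom

omit [Finite F] in
theorem conj_toP (g : EG Q) : MulAut.conj (toP g) = autO Q g.1 := by
  rw [Semisim.conj_eq_aut]
  exact aut_congr' fun _ => rfl

theorem isPM_of_autO_eq_one (hQ : Nondeg Q) (h7 : 7 ≤ finrank F V) {k : orth Q}
    (h : autO Q k = 1) : IsPM Q k := by
  obtain ⟨t, -, ht⟩ := aut_eq_aut hQ h7 (A := 1) (B := Semisim.orthHom k)
    (h.trans (map_one Semisim.autHom).symm).symm
  simp only [Semisim.orthHom_apply, Semisim.one_toAdd] at ht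
  have : Nontrivial V := Module.nontrivial_of_finrank_pos (R := F) (by omega)
  obtain ⟨v, hv⟩ := exists_ne (0 : V)
  obtain ⟨w, hw⟩ := exists_Q_ne_zero hQ hv
  have h1 := k.2 w
  rw [ht, Q_smul] at h1
  rcases mul_self_eq_one_iff.1 (mul_right_cancel₀ hw (h1.trans (one_mul _).symm)) with h' | h'
  · exact Or.inl fun x => by rw [ht, h', one_smul]
  · exact Or.inr fun x => by rw [ht, h', neg_one_smul]

variable {lam : F} (h : V ≃ₗ[F] V)

/-- The isometries commuting with `h`. -/
def cen (Q : QuadraticForm F V) (h : V ≃ₗ[F] V) : Subgroup (orth Q) where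
  carrier := {g | ∀ v, g.1 (h v) = h (g.1 v)}
  one_mem' _ := rfl
  mul_mem' {a b} ha hb v := by rw [orth_mul_apply, orth_mul_apply, hb, ha]
  inv_mem' {a} ha v := by
    show a.1.symm (h v) = h (a.1.symm v)
    rw [LinearEquiv.symm_apply_eq, ha, LinearEquiv.apply_symm_apply]

/-- **The criterion**, given rigidity of the centraliser of `h`. -/
theorem core_bot_of [Finite V] (hQ : Nondeg Q) (h7 : 7 ≤ finrank F V) (h8 : NoTriality Q)
    (hlam : lam ≠ 0) (hh : ∀ v, h (h v) = lam • v) (S₀ : Semisim Q)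
    (hS₀ : ∀ v, S₀.toAdd v = h v) (A : Subgroup (MulAut (PG Q)))
    (hinn : ∀ y, MulAut.conj y ∈ A) (hord : orderOf S₀.aut = 2)
    (hnin : S₀.aut ∉ (MulAut.conj : PG Q →* MulAut (PG Q)).range)
    (P1 : ∀ (N : ℕ), Odd N → ∀ H : Subgroup (orth Q), H ≤ cen Q h →
      (∀ g ∈ EG Q, g ∈ cen Q h → ∀ k ∈ H, g * k * g⁻¹ ∈ H) → (∀ k ∈ H, IsPM Q (k ^ N)) →
      ∀ k ∈ H, autO Q k = 1 ∨ autO Q k = S₀.aut)
    (P2 : ∀ S : Semisim Q,
      (∀ g ∈ EG Q, g ∈ cen Q h → ∀ y, S.toAdd ((g * g).1 y) = (g * g).1 (S.toAdd y)) →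
      (∃ ν : F, ν ≠ 0 ∧ ∀ v, S.toAdd (h v) = ν • h (S.toAdd v)) →
      S.aut * S.aut = 1 ∨ S.aut * S.aut = S₀.aut) :
    Cfsg.pPrimeCore 2 ↥(A ⊓ Subgroup.centralizer {S₀.aut}) = ⊥ := by
  classical
  have : Finite (MulAut (PG Q)) :=
    Finite.of_injective (fun α : MulAut (PG Q) => (α : PG Q → PG Q)) DFunLike.coe_injective
  obtain ⟨p, hchar⟩ := CharP.exists F
  have : Fact p.Prime := ⟨CharP.char_is_prime F p⟩
  set x := S₀.aut with hx
  set C := A ⊓ Subgroup.centralizer {x}
  set D := (MulAut.conj : PG Q →* MulAut (PG Q)).range ⊓ Subgroup.centralizer {x}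
  have hxx : x * x = 1 := by rw [← _root_.sq, ← hord, pow_orderOf_eq_one]
  have hDC : D ≤ C := inf_le_inf_right _ (by rintro _ ⟨y, rfl⟩; exact hinn y)
  have hCD : ∀ c ∈ C, ∀ d ∈ D, c * d * c⁻¹ ∈ D := fun c hc d hd =>
    ⟨(Cfsg.innNormal (PG Q)).conj_mem d hd.1 c, (Subgroup.centralizer {x}).mul_mem
      ((Subgroup.centralizer {x}).mul_mem hc.2 hd.2) ((Subgroup.centralizer {x}).inv_mem hc.2)⟩
  -- elements of `D` lift to isometries commuting with `h` up to a sign
  have hlift : ∀ d ∈ D, ∃ k : orth Q, k ∈ EG Q ∧ autO Q k = d ∧ k * k ∈ cen Q h := by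
    rintro d ⟨⟨y, rfl⟩, hd⟩
    obtain ⟨k, rfl⟩ := toP_surj y
    refine ⟨k.1, k.2, (conj_toP k).symm, ?_⟩
    have h1 : (S₀ * Semisim.orthHom k.1).aut = (Semisim.orthHom k.1 * S₀).aut := by
      show Semisim.autHom _ = Semisim.autHom _
      rw [map_mul, map_mul]
      have := Subgroup.mem_centralizer_iff.1 hd x rfl
      rw [conj_toP] at this
      exact this
    obtain ⟨t, -, ht⟩ := aut_eq_aut hQ h7 h1
    simp only [Semisim.mul_toAdd, Semisim.orthHom_apply, hS₀] at ht
    intro v
    have h2 : lam • k.1.1 v = (t * t * lam) • k.1.1 v := by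
      conv_lhs => rw [← map_smul k.1.1, ← hh v, ht (h v), ht v, map_smul, hh, smul_smul, smul_smul]
    by_cases hk0 : k.1.1 v = 0
    · have : v = 0 := k.1.1.injective (hk0.trans (map_zero _).symm)
      simp [this]
    have ht2 : lam = t * t * lam := smul_left_injective F hk0 h2
    have ht1 : t * t = 1 := mul_right_cancel₀ hlam (ht2.symm.trans (one_mul lam).symm)
    rw [orth_mul_apply, orth_mul_apply, ht, map_smul, ht, smul_smul, ht1, one_smul]
  have hxD : x ∉ D := fun hm => hnin hm.1
  refine Cfsg.Agent.Lib.AutPSL.pPrimeCore_eq_bot_of (N := D) (D := D) (x := x) le_rfl hDC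
    (fun d hd n hn => hCD d (hDC hd) n hn) hCD ?_ hord hxD ?_
  · intro c hc hodd hcomm
    obtain ⟨S, rfl⟩ := exists_semisim_aut p hQ h7 h8 c
    have hS : ∀ g ∈ EG Q, g ∈ cen Q h →
        ∀ y, S.toAdd ((g * g).1 y) = (g * g).1 (S.toAdd y) := by
      intro g hg hgc y
      have hd : autO Q g ∈ D := by
        refine ⟨⟨toP ⟨g, hg⟩, conj_toP ⟨g, hg⟩⟩, Subgroup.mem_centralizer_iff.2 ?_⟩
        rintro _ rfl
        show S₀.aut * Semisim.autHom _ = Semisim.autHom _ * S₀.aut
        rw [← Semisim.autHom_apply, ← map_mul, ← map_mul]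
        exact aut_congr' fun v => by
          simp only [Semisim.mul_toAdd, Semisim.orthHom_apply, hS₀]; exact (hgc v).symm
      obtain ⟨t, -, ht⟩ := aut_eq_aut hQ h7 (A := Semisim.orthHom g * S)
        (B := S * Semisim.orthHom g) (by
          show Semisim.autHom _ = Semisim.autHom _
          rw [map_mul, map_mul]
          exact (hcomm _ hd).symm)
      simp only [Semisim.mul_toAdd, Semisim.orthHom_apply] at ht
      have ht1 : t * t = 1 := by
        have : Nontrivial V := Module.nontrivial_of_finrank_pos (R := F) (by omega)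
        obtain ⟨v, hv⟩ := exists_ne (0 : V)
        obtain ⟨w, hw⟩ := exists_Q_ne_zero hQ hv
        have h1 := congrArg Q (ht w)
        rw [Q_smul, g.2, S.map_Q', S.map_Q', g.2] at h1
        refine mul_right_cancel₀ (mul_ne_zero S.c_ne ((map_ne_zero S.τ).2 hw)) ?_
        rw [← h1, one_mul]
      rw [orth_mul_apply, ht, ht, map_smul, smul_smul, ht1, one_smul, orth_mul_apply]
    have hν : ∃ ν : F, ν ≠ 0 ∧ ∀ v, S.toAdd (h v) = ν • h (S.toAdd v) := by
      obtain ⟨ν, hν0, hν⟩ := aut_eq_aut hQ h7 (A := S₀ * S) (B := S * S₀) (by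
        show Semisim.autHom _ = Semisim.autHom _
        rw [map_mul, map_mul]
        exact Subgroup.mem_centralizer_iff.1 hc.2 x rfl)
      simp only [Semisim.mul_toAdd, hS₀] at hν
      exact ⟨ν, hν0, hν⟩
    obtain ⟨i, hi⟩ : Odd (orderOf S.aut) :=
      Nat.not_even_iff_odd.1 fun he => hodd (even_iff_two_dvd.1 he)
    have h3 : S.aut = (S.aut * S.aut) ^ (i + 1) := by
      rw [← _root_.sq, ← pow_mul, show 2 * (i + 1) = orderOf S.aut + 1 by omega, pow_succ,
        pow_orderOf_eq_one, one_mul]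
    rw [h3]
    refine pow_mem ?_ _
    rcases P2 S hS hν with h4 | h4 <;> rw [h4]
    · exact one_mem _
    · exact Subgroup.mem_zpowers x
  · intro W hW hWn hWp
    have hWodd : Odd (Nat.card W) :=
      Nat.not_even_iff_odd.1 fun he => hWp (even_iff_two_dvd.1 he)
    let H : Subgroup (orth Q) := W.comap (autO Q) ⊓ EG Q ⊓ cen Q h
    rw [eq_bot_iff]
    intro w hw
    rw [Subgroup.mem_bot]
    obtain ⟨k, hk, hkw, hkk⟩ := hlift w (hW hw)
    have hwo : Odd (orderOf w) := hWodd.of_dvd_nat (Subgroup.orderOf_dvd_natCard W hw)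
    have hkH : k * k ∈ H := ⟨⟨by
      show autO Q (k * k) ∈ W
      rw [map_mul, hkw]; exact mul_mem hw hw, mul_mem hk hk⟩, hkk⟩
    have h2 : (w * w) * (w * w) = 1 := by
      rw [← hkw, ← map_mul]
      rcases P1 _ hWodd H inf_le_right (fun g hg hgc u hu => ⟨⟨by
          show autO Q (g * u * g⁻¹) ∈ W
          rw [map_mul, map_mul, map_inv]
          refine hWn _ ⟨⟨toP ⟨g, hg⟩, conj_toP ⟨g, hg⟩⟩, Subgroup.mem_centralizer_iff.2 ?_⟩ _
            hu.1.1
          rintro _ rfl
          show S₀.aut * Semisim.autHom _ = Semisim.autHom _ * S₀.aut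
          rw [← Semisim.autHom_apply, ← map_mul, ← map_mul]
          exact aut_congr' fun v => by
            simp only [Semisim.mul_toAdd, Semisim.orthHom_apply, hS₀]; exact (hgc v).symm,
          (EG Q).mul_mem ((EG Q).mul_mem hg hu.1.2) ((EG Q).inv_mem hg)⟩,
          (cen Q h).mul_mem ((cen Q h).mul_mem hgc hu.2) ((cen Q h).inv_mem hgc)⟩)
        (fun u hu => isPM_of_autO_eq_one hQ h7 (by
          rw [map_pow]
          have := congrArg Subtype.val (pow_card_eq_one' (x := (⟨_, hu.1.1⟩ : W)))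
          rwa [SubgroupClass.coe_pow] at this)) _ hkH with h4 | h4 <;> rw [h4]
      · exact one_mul 1
      · exact hxx
    obtain ⟨i, hi⟩ := hwo
    have h4 : orderOf w ∣ 4 := orderOf_dvd_of_pow_eq_one (by
      rw [show (4 : ℕ) = 2 + 2 by rfl, pow_add, _root_.sq]; exact h2)
    have h5 : Nat.Coprime (orderOf w) (2 ^ 2) :=
      Nat.Coprime.pow_right 2 (Nat.coprime_two_right.2 ⟨i, hi⟩)
    exact orderOf_eq_one_iff.1 (h5.eq_one_of_dvd h4)

end General

/-! ### An isometric involution with eigenspaces of odd dimensions -/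

section TypeI

variable {F : Type*} [Field F] {V : Type*} [AddCommGroup V] [Module F V]
  {Q : QuadraticForm F V} (h : V ≃ₗ[F] V) (ε : F)

/-- An eigenspace of `h`. -/
def eig : Submodule F V := LinearMap.ker (h.toLinearMap - ε • LinearMap.id)

theorem mem_eig {v : V} : v ∈ eig h ε ↔ h v = ε • v := by
  rw [eig, LinearMap.mem_ker, LinearMap.sub_apply, sub_eq_zero]; rfl

/-- The restriction of a commuting isometry to an eigenspace. -/
def resEig (Q : QuadraticForm F V) : cen Q h →* orth (res Q (eig h ε)) where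
  toFun g := ⟨
    { toFun := fun v => ⟨g.1.1 v, (mem_eig h ε).2 (by
        rw [← g.2, (mem_eig h ε).1 v.2, map_smul])⟩
      invFun := fun v => ⟨g.1.1.symm v, (mem_eig h ε).2 (by
        apply g.1.1.injective
        rw [g.2, map_smul, LinearEquiv.apply_symm_apply, (mem_eig h ε).1 v.2])⟩
      map_add' := fun u v => Subtype.ext (map_add g.1.1 _ _)
      map_smul' := fun t v => Subtype.ext (map_smul g.1.1 _ _)
      left_inv := fun v => Subtype.ext (g.1.1.symm_apply_apply _)
      right_inv := fun v => Subtype.ext (g.1.1.apply_symm_apply _) },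
    fun v => g.1.2 v⟩
  map_one' := orth_ext fun _ => rfl
  map_mul' _ _ := orth_ext fun _ => rfl

theorem resEig_apply (g : cen Q h) (v : eig h ε) : ((resEig h ε Q g).1 v : V) = g.1.1 v := rfl

variable (hQi : ∀ v, Q (h v) = Q v) (h2 : (2 : F) ≠ 0)

include hQi h2 in
theorem polar_eig (hε : ε * ε = 1) {u v : V} (hu : h u = ε • u) (hv : h v = -ε • v) :
    polar Q u v = 0 := by
  have h1 : polar Q (h u) (h v) = polar Q u v := by simp only [polar, ← map_add, hQi]
  rw [hu, hv, polar_smul_left, polar_smul_right, smul_eq_mul, smul_eq_mul, ← mul_assoc,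
    mul_neg, hε, neg_one_mul] at h1
  have : (2 : F) * polar Q u v = 0 := by linear_combination -h1
  exact (mul_eq_zero.1 this).resolve_left h2

include hQi h2 in
/-- The Siegel transformations of an eigenspace commute with `h`. -/
theorem rho_mem_cen (hε : ε * ε = 1) (hdec : ∀ v : V, ∃ a b, v = a + b ∧ h a = ε • a ∧ h b = -ε • b)
    {e u : eig h ε} (hu : SPair (res Q (eig h ε)) e u) :
    ∃ hu' : SPair Q (e : V) (u : V), rho hu' ∈ cen Q h ∧
      ∀ hc : rho hu' ∈ cen Q h, resEig h ε Q ⟨_, hc⟩ = rho hu := by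
  have hu' : SPair Q (e : V) (u : V) := ⟨hu.sing, hu.perp⟩
  refine ⟨hu', fun v => ?_, fun hc => orth_ext fun w => Subtype.ext ?_⟩
  · obtain ⟨a, b, rfl, ha, hb⟩ := hdec v
    have he := (mem_eig h ε).1 e.2
    have hu0 := (mem_eig h ε).1 u.2
    have p1 := polar_eig h ε hQi h2 hε he hb
    have p2 := polar_eig h ε hQi h2 hε hu0 hb
    simp only [rho_apply, map_add, map_sub, map_smul, ha, hb, he, hu0, polar_add_right,
      polar_smul_right, p1, p2, smul_eq_mul]
    module
  · rw [resEig_apply]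
    simp only [rho_apply, res_polar, res_apply, Submodule.coe_sub, Submodule.coe_add,
      Submodule.coe_smul]

variable [Finite F] [FiniteDimensional F V]

include hQi h2 in
theorem nondeg_eig (hQ : Nondeg Q) (hε : ε * ε = 1)
    (hdec : ∀ v : V, ∃ a b, v = a + b ∧ h a = ε • a ∧ h b = -ε • b) :
    Nondeg (res Q (eig h ε)) := by
  intro w hw
  refine Subtype.ext (hQ _ fun v => ?_)
  obtain ⟨a, b, rfl, ha, hb⟩ := hdec v
  rw [polar_add_right, polar_eig h ε hQi h2 hε ((mem_eig h ε).1 w.2) hb, add_zero]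
  exact hw ⟨a, (mem_eig h ε).2 ha⟩

include hQi h2 in
/-- A group normalised by the centraliser acts as `±1` on the eigenspace. -/
theorem isPM_eig [Finite V] (hQ : Nondeg Q) (hε : ε * ε = 1)
    (hdec : ∀ v : V, ∃ a b, v = a + b ∧ h a = ε • a ∧ h b = -ε • b)
    (hodd : Odd (finrank F (eig h ε))) {N : ℕ} (hN : Odd N) (H : Subgroup (orth Q))
    (hnorm : ∀ g ∈ EG Q, g ∈ cen Q h → ∀ k ∈ H, g * k * g⁻¹ ∈ H)
    (hexp : ∀ k ∈ H, IsPM Q (k ^ N)) {k : orth Q} (hk : k ∈ H) (hkc : k ∈ cen Q h) :
    IsPM (res Q (eig h ε)) (resEig h ε Q ⟨k, hkc⟩) := by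
  have hnd := nondeg_eig h ε hQi h2 hQ hε hdec
  by_cases h1 : finrank F (eig h ε) = 1
  · obtain ⟨v₀, hv₀, hspan⟩ := finrank_eq_one_iff'.1 h1
    set g := resEig h ε Q ⟨k, hkc⟩
    obtain ⟨c, hc⟩ := hspan (g.1 v₀)
    obtain ⟨w, hw⟩ := exists_Q_ne_zero hnd hv₀
    obtain ⟨d, rfl⟩ := hspan w
    have hgw : g.1 (d • v₀) = c • (d • v₀) := by rw [map_smul, ← hc, smul_comm]
    have h3 := g.2 (d • v₀)
    rw [hgw, Q_smul (res Q (eig h ε)) c] at h3
    have hg : ∀ x, g.1 x = c • x := fun x => by
      obtain ⟨t, rfl⟩ := hspan x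
      rw [map_smul, ← hc, smul_comm]
    rcases mul_self_eq_one_iff.1 (mul_right_cancel₀ hw (h3.trans (one_mul _).symm)) with h' | h'
    · exact Or.inl fun x => by rw [hg, h', one_smul]
    · exact Or.inr fun x => by rw [hg, h', neg_one_smul]
  obtain ⟨i, hi⟩ := hodd
  refine isPM_of_odd_normal hnd h2 (by omega)
    ((H.subgroupOf (cen Q h)).map (resEig h ε Q)) ?_ hN ?_ ⟨⟨k, hkc⟩, hk, rfl⟩
  · intro g hg
    have hle : EG (res Q (eig h ε)) ≤
        ((EG Q).subgroupOf (cen Q h)).map (resEig h ε Q) := by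
      rw [EG, Subgroup.closure_le]
      rintro _ ⟨e, u, hu, rfl⟩
      obtain ⟨hu', hc, he⟩ := rho_mem_cen h ε hQi h2 hε hdec hu
      exact ⟨⟨_, hc⟩, rho_mem hu', he hc⟩
    obtain ⟨g', hg', rfl⟩ := hle hg
    rintro _ ⟨u, hu, rfl⟩
    exact ⟨g' * u * g'⁻¹, hnorm _ hg' g'.2 _ hu, by simp⟩
  · rintro _ ⟨u, hu, rfl⟩
    rw [← map_pow]
    rcases hexp _ hu with h' | h'
    · exact Or.inl fun v => Subtype.ext (by rw [resEig_apply, SubgroupClass.coe_pow]; exact h' v)
    · exact Or.inr fun v => Subtype.ext (by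
        rw [resEig_apply, SubgroupClass.coe_pow, Submodule.coe_neg]; exact h' v)

include hQi h2 in
/-- What commutes with the centraliser is scalar on a large eigenspace, with trivial field part. -/
theorem scalar_eig [Finite V] (hQ : Nondeg Q) (hε : ε * ε = 1)
    (hdec : ∀ v : V, ∃ a b, v = a + b ∧ h a = ε • a ∧ h b = -ε • b)
    (h3 : 3 ≤ finrank F (eig h ε)) (T : Semisim Q) (hTh : ∀ v, T.toAdd (h v) = h (T.toAdd v))
    (hτε : T.τ ε = ε)
    (hT : ∀ g ∈ EG Q, g ∈ cen Q h → ∀ y, T.toAdd ((g * g).1 y) = (g * g).1 (T.toAdd y)) :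
    ∃ l : F, (∀ t, T.τ t = t) ∧ (∀ v, h v = ε • v → T.toAdd v = l • v) ∧ l * l = T.c := by
  have hnd := nondeg_eig h ε hQi h2 hQ hε hdec
  have hmem : ∀ {v}, v ∈ eig h ε → T.toAdd v ∈ eig h ε := fun {v} hv =>
    (mem_eig h ε).2 (by rw [← hTh, (mem_eig h ε).1 hv, T.map_smul', hτε])
  have hbij : Function.Bijective fun v : eig h ε => (⟨T.toAdd v, hmem v.2⟩ : eig h ε) :=
    Finite.injective_iff_bijective.1 fun u v huv =>
      Subtype.ext (T.toAdd.injective (congrArg Subtype.val huv))
  let T' : Semisim (res Q (eig h ε)) :=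
    { toAdd := AddEquiv.ofBijective
        (AddMonoidHom.mk' (fun v : eig h ε => (⟨T.toAdd v, hmem v.2⟩ : eig h ε))
          fun u v => Subtype.ext (map_add T.toAdd _ _)) hbij
      τ := T.τ
      c := T.c
      c_ne := T.c_ne
      map_smul' := fun t v => Subtype.ext (T.map_smul' t v)
      map_Q' := fun v => T.map_Q' v }
  obtain ⟨l, -, hτ, hl⟩ := scalar_of_commute hnd h3 T' fun e u hu y => by
    have hu2 : SPair (res Q (eig h ε)) e ((2 : F)⁻¹ • u) :=
      ⟨hu.sing, by rw [polar_smul_right, hu.perp, smul_zero]⟩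
    have hsq : rho hu = rho hu2 * rho hu2 := by
      rw [rho_mul]
      exact rho_congr _ _ rfl (by rw [← add_smul, ← two_mul, mul_inv_cancel₀ h2, one_smul])
    obtain ⟨hu', hc, he⟩ := rho_mem_cen h ε hQi h2 hε hdec hu2
    refine Subtype.ext ?_
    rw [hsq, ← he hc, ← map_mul]
    exact hT _ (rho_mem hu') hc y
  refine ⟨l, hτ, fun v hv => congrArg Subtype.val (hl ⟨v, (mem_eig h ε).2 hv⟩), ?_⟩
  have : Nontrivial (eig h ε) := Module.nontrivial_of_finrank_pos (R := F) (by omega)
  obtain ⟨v, hv⟩ := exists_ne (0 : eig h ε)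
  obtain ⟨w, hw⟩ := exists_Q_ne_zero hnd hv
  have h1 := T'.map_Q' w
  rw [hl, Q_smul, show T'.τ (res Q (eig h ε) w) = res Q (eig h ε) w from hτ _] at h1
  exact mul_right_cancel₀ hw h1

include hQi h2 in
/-- Eigenspaces of dimension one are preserved with a scalar. -/
theorem scalar_line (hQ : Nondeg Q) (hε : ε * ε = 1)
    (hdec : ∀ v : V, ∃ a b, v = a + b ∧ h a = ε • a ∧ h b = -ε • b)
    (h1 : finrank F (eig h ε) = 1) (T : Semisim Q) (hτ : ∀ t, T.τ t = t)
    (hTh : ∀ v, T.toAdd (h v) = h (T.toAdd v)) :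
    ∃ l : F, (∀ v, h v = ε • v → T.toAdd v = l • v) ∧ l * l = T.c := by
  obtain ⟨⟨v₀, hv₀⟩, hv₀0, hspan⟩ := finrank_eq_one_iff'.1 h1
  have hm := (mem_eig h ε).1 hv₀
  obtain ⟨l, hl⟩ := hspan ⟨T.toAdd v₀, (mem_eig h ε).2 (by
    rw [← hTh, hm, T.map_smul', hτ])⟩
  have hl' : l • v₀ = T.toAdd v₀ := congrArg Subtype.val hl
  have hall : ∀ v, h v = ε • v → T.toAdd v = l • v := fun v hv => by
    obtain ⟨t, ht⟩ := hspan ⟨v, (mem_eig h ε).2 hv⟩
    have ht' : t • v₀ = v := congrArg Subtype.val ht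
    rw [← ht', T.map_smul', hτ, ← hl', smul_comm]
  refine ⟨l, hall, ?_⟩
  obtain ⟨⟨w, hw⟩, hQw⟩ := exists_Q_ne_zero (nondeg_eig h ε hQi h2 hQ hε hdec) hv₀0
  have h3 := T.map_Q' w
  rw [hall w ((mem_eig h ε).1 hw), Q_smul, hτ] at h3
  exact mul_right_cancel₀ hQw h3

end TypeI

section TypeIMain

variable {F : Type*} [Field F] [Finite F] {V : Type*} [AddCommGroup V] [Module F V]
  [FiniteDimensional F V] [Finite V] {Q : QuadraticForm F V}

theorem finrank_eig_add (h : V ≃ₗ[F] V) (h2 : (2 : F) ≠ 0) (hinv : ∀ v, h (h v) = v) :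
    finrank F (eig h 1) + finrank F (eig h (-1)) = finrank F V := by
  refine Submodule.finrank_add_eq_of_isCompl ⟨?_, ?_⟩
  · rw [Submodule.disjoint_def]
    intro v h1 h3
    rw [mem_eig, one_smul] at h1
    rw [mem_eig, h1, neg_one_smul] at h3
    have : (2 : F) • v = 0 := by rw [two_smul]; nth_rw 1 [h3]; exact neg_add_cancel v
    exact (smul_eq_zero.1 this).resolve_left h2
  · rw [codisjoint_iff_le_sup]
    intro v _
    have : v = (2 : F)⁻¹ • (v + h v) + (2 : F)⁻¹ • (v - h v) := by
      rw [← smul_add, show v + h v + (v - h v) = (2 : F) • v by module, inv_smul_smul₀ h2]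
    rw [this]
    refine Submodule.add_mem_sup ((mem_eig h 1).2 ?_) ((mem_eig h (-1)).2 ?_)
    · rw [map_smul, map_add, hinv, one_smul, add_comm]
    · rw [map_smul, map_sub, hinv, neg_one_smul, ← smul_neg, neg_sub]

theorem core_bot_typeI (hQ : Nondeg Q) (h2 : (2 : F) ≠ 0) (h7 : 7 ≤ finrank F V)
    (h8 : NoTriality Q) (h : V ≃ₗ[F] V) (hinv : ∀ v, h (h v) = v) (hQi : ∀ v, Q (h v) = Q v)
    (hd : ∀ ε : F, ε = 1 ∨ ε = -1 → Odd (finrank F (eig h ε)))
    (S₀ : Semisim Q) (hS₀ : ∀ v, S₀.toAdd v = h v) (A : Subgroup (MulAut (PG Q)))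
    (hinn : ∀ y, MulAut.conj y ∈ A) (hord : orderOf S₀.aut = 2)
    (hnin : S₀.aut ∉ (MulAut.conj : PG Q →* MulAut (PG Q)).range) :
    Cfsg.pPrimeCore 2 ↥(A ⊓ Subgroup.centralizer {S₀.aut}) = ⊥ := by
  have hε1 : (1 : F) * 1 = 1 := one_mul 1
  have hεm : (-1 : F) * -1 = 1 := by ring
  have hdec : ∀ v : V, ∃ a b, v = a + b ∧ h a = (1 : F) • a ∧ h b = -(1 : F) • b := fun v =>
    ⟨(2 : F)⁻¹ • (v + h v), (2 : F)⁻¹ • (v - h v),
      by rw [← smul_add, show v + h v + (v - h v) = (2 : F) • v by module, inv_smul_smul₀ h2],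
      by rw [map_smul, map_add, hinv, one_smul, add_comm],
      by rw [map_smul, map_sub, hinv, neg_one_smul, ← smul_neg, neg_sub]⟩
  have hdec' : ∀ v : V, ∃ a b, v = a + b ∧ h a = (-1 : F) • a ∧ h b = -(-1 : F) • b := fun v => by
    obtain ⟨a, b, hv, ha, hb⟩ := hdec v
    exact ⟨b, a, hv.trans (add_comm a b), hb, by rw [neg_neg]; exact ha⟩
  have hfr := finrank_eig_add h h2 hinv
  have hside : ∀ {T : Semisim Q} {l r : F}, l ≠ 0 →
      (∀ v, h v = (1 : F) • v → T.toAdd v = l • v) →
      (∀ v, h v = (-1 : F) • v → T.toAdd v = r • v) → (r = l ∨ r = -l) →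
      T.aut = 1 ∨ T.aut = S₀.aut := by
    intro T l r hl h1 h1' hr
    rcases hr with rfl | rfl
    · refine Or.inl (aut_eq_one_of_smul hQ h7 hl fun v => ?_)
      obtain ⟨a, b, rfl, ha, hb⟩ := hdec v
      rw [map_add, h1 a ha, h1' b hb, smul_add]
    · right
      rw [aut_congr' (T := Semisim.scalar (Units.mk0 l hl) * S₀) fun v => ?_]
      · show Semisim.autHom _ = _
        rw [map_mul, show Semisim.autHom (Semisim.scalar (Q := Q) (Units.mk0 l hl)) = 1 from
          aut_eq_one_of_smul hQ h7 hl fun v => Semisim.scalar_toAdd _ v, one_mul]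
        rfl
      · obtain ⟨a, b, rfl, ha, hb⟩ := hdec v
        simp only [Semisim.mul_toAdd, Semisim.scalar_toAdd, hS₀, map_add, h1 a ha, h1' b hb,
          ha, hb, Units.val_mk0]
        module
  refine core_bot_of h hQ h7 h8 one_ne_zero (fun v => by rw [one_smul, hinv]) S₀ hS₀ A hinn hord
    hnin ?_ ?_
  · intro N hN H hH hnorm hexp k hk
    have r1 := isPM_eig h 1 hQi h2 hQ hε1 hdec (hd 1 (.inl rfl)) hN H hnorm hexp hk (hH hk)
    have r2 := isPM_eig h (-1) hQi h2 hQ hεm hdec' (hd (-1) (.inr rfl)) hN H hnorm hexp hk (hH hk)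
    have e1 : ∃ t : F, (t = 1 ∨ t = -1) ∧ ∀ v, h v = (1 : F) • v → k.1 v = t • v := by
      rcases r1 with r | r
      · exact ⟨1, .inl rfl, fun v hv => (congrArg Subtype.val (r ⟨v, (mem_eig h 1).2 hv⟩)).trans
          (one_smul F v).symm⟩
      · exact ⟨-1, .inr rfl, fun v hv => (congrArg Subtype.val (r ⟨v, (mem_eig h 1).2 hv⟩)).trans
          (neg_one_smul F v).symm⟩
    have e2 : ∃ t : F, (t = 1 ∨ t = -1) ∧ ∀ v, h v = (-1 : F) • v → k.1 v = t • v := by
      rcases r2 with r | r
      · exact ⟨1, .inl rfl, fun v hv => (congrArg Subtype.val (r ⟨v, (mem_eig h _).2 hv⟩)).trans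
          (one_smul F v).symm⟩
      · exact ⟨-1, .inr rfl, fun v hv => (congrArg Subtype.val (r ⟨v, (mem_eig h _).2 hv⟩)).trans
          (neg_one_smul F v).symm⟩
    obtain ⟨t, ht, h1⟩ := e1
    obtain ⟨r, hr, h1'⟩ := e2
    refine hside (T := Semisim.orthHom k) (l := t) (r := r)
      (by rcases ht with rfl | rfl <;> simp) h1 h1' ?_
    rcases ht with rfl | rfl <;> rcases hr with rfl | rfl <;> simp
  · intro S hS hν
    obtain ⟨ν, hν0, hν⟩ := hν
    have : Nontrivial V := Module.nontrivial_of_finrank_pos (R := F) (by omega)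
    obtain ⟨v₀, hv₀⟩ := exists_ne (0 : V)
    have hν2 : ν * ν = 1 := by
      have h1 := hν (h v₀)
      rw [hinv, hν v₀, map_smul, hinv, smul_smul] at h1
      exact (smul_left_injective F (fun h0 => hv₀ (S.toAdd.injective
        (h0.trans (map_zero _).symm))) (show (1 : F) • S.toAdd v₀ = (ν * ν) • S.toAdd v₀ by
          rw [one_smul]; exact h1)).symm
    have hτν : S.τ ν = ν := by
      rcases mul_self_eq_one_iff.1 hν2 with h' | h' <;> simp [h', map_neg]
    have hTh : ∀ v, (S * S).toAdd (h v) = h ((S * S).toAdd v) := fun v => by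
      rw [Semisim.mul_toAdd, Semisim.mul_toAdd, hν, S.map_smul', hτν, hν, smul_smul, hν2, one_smul]
    have hT : ∀ g ∈ EG Q, g ∈ cen Q h → ∀ y,
        (S * S).toAdd ((g * g).1 y) = (g * g).1 ((S * S).toAdd y) := fun g hg hgc y => by
      rw [Semisim.mul_toAdd, Semisim.mul_toAdd, hS g hg hgc, hS g hg hgc]
    have hmul : S.aut * S.aut = (S * S).aut := (map_mul Semisim.autHom S S).symm
    rw [hmul]
    obtain ⟨i, hi⟩ := hd 1 (.inl rfl)
    obtain ⟨i', hi'⟩ := hd (-1) (.inr rfl)
    obtain ⟨hτ, l, r, h1, h1', hl, hr⟩ : (∀ t, (S * S).τ t = t) ∧ ∃ l r : F,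
        (∀ v, h v = (1 : F) • v → (S * S).toAdd v = l • v) ∧
        (∀ v, h v = (-1 : F) • v → (S * S).toAdd v = r • v) ∧
        l * l = (S * S).c ∧ r * r = (S * S).c := by
      by_cases h3 : 3 ≤ finrank F (eig h 1)
      · obtain ⟨l, hτ, h1, hl⟩ :=
          scalar_eig h 1 hQi h2 hQ hε1 hdec h3 _ hTh (map_one _) hT
        by_cases h3' : 3 ≤ finrank F (eig h (-1))
        · obtain ⟨r, -, h1', hr⟩ :=
            scalar_eig h (-1) hQi h2 hQ hεm hdec' h3' _ hTh (by rw [map_neg, map_one]) hT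
          exact ⟨hτ, l, r, h1, h1', hl, hr⟩
        · obtain ⟨r, h1', hr⟩ :=
            scalar_line h (-1) hQi h2 hQ hεm hdec' (by omega) _ hτ hTh
          exact ⟨hτ, l, r, h1, h1', hl, hr⟩
      · obtain ⟨r, hτ, h1', hr⟩ :=
          scalar_eig h (-1) hQi h2 hQ hεm hdec' (by omega) _ hTh (by rw [map_neg, map_one]) hT
        obtain ⟨l, h1, hl⟩ := scalar_line h 1 hQi h2 hQ hε1 hdec (by omega) _ hτ hTh
        exact ⟨hτ, l, r, h1, h1', hl, hr⟩
    refine hside (fun h0 => (S * S).c_ne (by rw [← hl, h0, mul_zero])) h1 h1' ?_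
    exact mul_self_eq_mul_self_iff.1 (hr.trans hl.symm)

end TypeIMain

/-! ### A self-adjoint root of a non-square -/

section TypeII

variable {F : Type*} [Field F] {V : Type*} [AddCommGroup V] [Module F V]

/-- `F(√lam)`. -/
abbrev FK (lam : F) : Type _ := QuadraticAlgebra F lam 0

/-- `V` as a space over `F(√lam)` through `h`. -/
def VK (_h : V ≃ₗ[F] V) (_lam : F) : Type _ := V

variable {h : V ≃ₗ[F] V} {lam : F}

/-- The identity map. -/
def toV (v : VK h lam) : V := v

/-- The identity map. -/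
def ofV (v : V) : VK h lam := v

theorem toV_ofV (v : V) : toV (ofV (h := h) (lam := lam) v) = v := rfl

theorem ofV_toV (v : VK h lam) : ofV (toV v) = v := rfl

instance : AddCommGroup (VK h lam) := inferInstanceAs (AddCommGroup V)
instance : Module F (VK h lam) := inferInstanceAs (Module F V)
instance [Finite V] : Finite (VK h lam) := inferInstanceAs (Finite V)
instance [FiniteDimensional F V] : FiniteDimensional F (VK h lam) :=
  inferInstanceAs (FiniteDimensional F V)

variable [hh : Fact (∀ v, h (h v) = lam • v)]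

noncomputable instance instModuleFK : Module (FK lam) (VK h lam) :=
  Module.compHom V (QuadraticAlgebra.lift (a := lam) (b := 0) ⟨h.toLinearMap, LinearMap.ext fun v => by
    simp [hh.out v]⟩).toRingHom

theorem fk_smul (z : FK lam) (v : VK h lam) :
    z • v = ((z.re • (toV v) + z.im • h (toV v) : V) : VK h lam) := rfl

instance : IsScalarTower F (FK lam) (VK h lam) := ⟨fun s z v => by
  show ((s • z).re • (toV v) + (s • z).im • h (toV v) : V) =
    s • (z.re • (toV v) + z.im • h (toV v) : V)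
  rw [QuadraticAlgebra.re_smul, QuadraticAlgebra.im_smul, smul_eq_mul, smul_eq_mul, smul_add,
    smul_smul, smul_smul]⟩

variable (Q : QuadraticForm F V) [hsq : Fact (∀ v, Q (h v) = lam * Q v)]
  [hns : Fact (∀ r : F, r ^ 2 ≠ lam + 0 * r)]

omit [Fact (∀ r : F, r ^ 2 ≠ lam + 0 * r)] in
theorem lam_ne [hns : Fact (∀ r : F, r ^ 2 ≠ lam + 0 * r)] : lam ≠ 0 :=
  fun h0 => hns.out 0 (by rw [h0]; ring)

include hsq hh hns in
theorem adjoint (u v : V) : polar Q (h u) v = polar Q u (h v) := by
  have h1 : ∀ a b, polar Q (h a) (h b) = lam * polar Q a b := fun a b => by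
    simp only [polar, ← map_add, hsq.out, mul_sub]
  have h3 := h1 u (h v)
  rw [hh.out, polar_smul_right, smul_eq_mul] at h3
  exact mul_left_cancel₀ (lam_ne (lam := lam)) h3

/-- The values of the form over `F(√lam)`. -/
def qKFun (v : VK h lam) : FK lam :=
  ⟨Q (toV v), polar Q (toV v) (h (toV v)) / (2 * lam)⟩

theorem polar_qKFun (h2 : (2 : F) ≠ 0) (u v : VK h lam) :
    polar (qKFun Q) u v = ⟨polar Q (toV u) (toV v),
      polar Q (toV u) (h (toV v)) / lam⟩ := by
  have hl := lam_ne (lam := lam)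
  ext
  · rfl
  · show polar Q ((toV u) + (toV v)) (h ((toV u) + (toV v))) / (2 * lam) -
      polar Q (toV u) (h (toV u)) / (2 * lam) -
      polar Q (toV v) (h (toV v)) / (2 * lam) = _ / lam
    rw [map_add, polar_add_left, polar_add_right, polar_add_right,
      polar_comm Q (toV v) (h (toV u)), adjoint (lam := lam) Q]
    field_simp
    ring

include hsq in
theorem Q_comb (a b : F) (x : V) :
    Q (a • x + b • h x) = (a * a + lam * (b * b)) * Q x + a * b * polar Q x (h x) := by
  rw [Q_add, Q_smul, Q_smul, hsq.out, polar_smul_left, polar_smul_right, smul_eq_mul, smul_eq_mul]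
  ring

include hsq hh hns in
theorem polar_comb (a b : F) (x y : V) :
    polar Q (a • x + b • h x) y = a * polar Q x y + b * polar Q x (h y) := by
  rw [polar_add_left, polar_smul_left, polar_smul_left, adjoint (lam := lam) Q, smul_eq_mul, smul_eq_mul]

include hsq hh hns in
theorem polar_comb_h (a b : F) (x y : V) :
    polar Q (a • x + b • h x) (h y) = a * polar Q x (h y) + b * lam * polar Q x y := by
  rw [polar_comb (lam := lam) Q, hh.out, polar_smul_right, smul_eq_mul]
  ring

include hsq hh hns in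
theorem polar_self_comb (a b : F) (x : V) :
    polar Q (a • x + b • h x) (h (a • x + b • h x)) =
      (a * a + lam * (b * b)) * polar Q x (h x) + a * b * (4 * lam) * Q x := by
  rw [polar_comb_h (lam := lam) Q, map_add, map_smul, map_smul, hh.out, polar_add_right,
    polar_add_right, polar_smul_right, polar_smul_right, polar_smul_right, polar_smul_right,
    polar_smul_right, polar_self']
  simp only [smul_eq_mul]
  ring

variable [Fact ((2 : F) ≠ 0)]

/-- The form over `F(√lam)`. -/
noncomputable def qK : QuadraticForm (FK lam) (VK h lam) :=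
  QuadraticMap.ofPolar (qKFun Q)
    (fun z v => by
      have h2 : (2 : F) ≠ 0 := Fact.out
      have hl := lam_ne (lam := lam)
      ext
      · show Q (z.re • (toV v) + z.im • h (toV v)) = _
        rw [Q_comb (lam := lam) Q]
        simp [qKFun]
        field_simp
        ring
      · show polar Q (z.re • (toV v) + z.im • h (toV v))
          (h (z.re • (toV v) + z.im • h (toV v))) / (2 * lam) = _
        rw [polar_self_comb (lam := lam) Q]
        simp [qKFun]
        field_simp
        ring)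
    (fun u v w => by
      rw [polar_qKFun Q Fact.out, polar_qKFun Q Fact.out, polar_qKFun Q Fact.out]
      ext
      · exact polar_add_left (Q := Q) _ _ _
      · show polar Q ((toV u) + (toV v)) _ / lam = _ / lam + _ / lam
        rw [polar_add_left, add_div])
    (fun z u w => by
      have hl := lam_ne (lam := lam)
      rw [polar_qKFun Q Fact.out, polar_qKFun Q Fact.out, smul_eq_mul]
      ext
      · show polar Q (z.re • (toV u) + z.im • h (toV u)) (toV w) = _
        rw [polar_comb (lam := lam) Q]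
        simp
        field_simp
      · show polar Q (z.re • (toV u) + z.im • h (toV u)) (h (toV w)) / lam = _
        rw [polar_comb_h (lam := lam) Q]
        simp
        field_simp)

theorem qK_apply (v : VK h lam) : qK Q v = qKFun Q v := rfl

theorem polar_qK (u v : VK h lam) :
    polar (qK Q) u v = ⟨polar Q (toV u) (toV v),
      polar Q (toV u) (h (toV v)) / lam⟩ := polar_qKFun Q Fact.out u v

theorem nondeg_qK (hQ : Nondeg Q) : Nondeg (qK (h := h) (lam := lam) Q) := fun u hu =>
  hQ _ fun v => congrArg QuadraticAlgebra.re ((polar_qK Q u v).symm.trans (hu v))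

theorem omega_smul (v : VK h lam) :
    (QuadraticAlgebra.omega : FK lam) • v = ofV (h (toV v)) := by
  rw [fk_smul, QuadraticAlgebra.omega_re, QuadraticAlgebra.omega_im, zero_smul, one_smul, zero_add]
  rfl

theorem algebraMap_smul_vk (t : F) (v : VK h lam) :
    (algebraMap F (FK lam) t) • v = t • v := by
  rw [fk_smul]; simp; rfl

/-- Isometries over `F(√lam)` as isometries over `F`. -/
noncomputable def resK : orth (qK (h := h) (lam := lam) Q) →* orth Q where
  toFun g := ⟨
    { toFun := fun v => toV (g.1 (ofV v))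
      invFun := fun v => toV (g.1.symm (ofV v))
      map_add' := fun u v => g.1.map_add (ofV u) (ofV v)
      map_smul' := fun t v => by
        show toV (g.1 (t • ofV (h := h) (lam := lam) v)) =
          t • toV (g.1 (ofV (h := h) (lam := lam) v))
        rw [← algebraMap_smul_vk, map_smul, algebraMap_smul_vk]
        rfl
      left_inv := fun v => g.1.symm_apply_apply v
      right_inv := fun v => g.1.apply_symm_apply v },
    fun v => congrArg QuadraticAlgebra.re (g.2 v)⟩
  map_one' := orth_ext fun _ => rfl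
  map_mul' _ _ := orth_ext fun _ => rfl

theorem resK_mem_cen (g : orth (qK (h := h) (lam := lam) Q)) : resK Q g ∈ cen Q h := fun v => by
  show toV (g.1 (ofV (h v))) = h (toV (g.1 (ofV v)))
  have h1 := congrArg toV (map_smul g.1 (QuadraticAlgebra.omega : FK lam) (ofV v))
  rw [omega_smul, omega_smul, toV_ofV, toV_ofV] at h1
  exact h1

variable [Finite F] [FiniteDimensional F V]

include hsq hh hns in
theorem core_bot_typeII [Finite V] (hQ : Nondeg Q) (h7 : 7 ≤ finrank F V) (h8 : NoTriality Q)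
    {n : ℕ} (hn : finrank F V = 2 * n) (hodd : Odd n) (S₀ : Semisim Q)
    (hS₀ : ∀ v, S₀.toAdd v = h v) (A : Subgroup (MulAut (PG Q)))
    (hinn : ∀ y, MulAut.conj y ∈ A) (hord : orderOf S₀.aut = 2)
    (hnin : S₀.aut ∉ (MulAut.conj : PG Q →* MulAut (PG Q)).range) :
    Cfsg.pPrimeCore 2 ↥(A ⊓ Subgroup.centralizer {S₀.aut}) = ⊥ := by
  have h2 : (2 : F) ≠ 0 := Fact.out
  have hl := lam_ne (lam := lam)
  haveI : Finite (FK lam) := Module.finite_of_finite F
  haveI : FiniteDimensional (FK lam) (VK h lam) :=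
    Module.Finite.of_restrictScalars_finite F (FK lam) (VK h lam)
  have hfr : finrank (FK lam) (VK h lam) = n := by
    have h1 := Module.finrank_mul_finrank F (FK lam) (VK h lam)
    rw [QuadraticAlgebra.finrank_eq_two, show finrank F (VK h lam) = finrank F V from rfl, hn] at h1
    omega
  have hK2 : (2 : FK lam) ≠ 0 := fun h0 =>
    h2 ((map_eq_zero (algebraMap F (FK lam))).1 (by rwa [map_ofNat]))
  have hndK := nondeg_qK (h := h) (lam := lam) Q hQ
  have h5 : 5 ≤ finrank (FK lam) (VK h lam) := by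
    obtain ⟨i, rfl⟩ := hodd; omega
  have h5' : 5 ≤ finrank F V := by omega
  have hmem : ∀ g ∈ EG (qK (h := h) (lam := lam) Q), resK Q g ∈ EG Q := fun g hg => by
    rw [← commutator_eq_EG hndK h5] at hg
    rw [← commutator_eq_EG hQ h5']
    have hle : (commutator (orth (qK (h := h) (lam := lam) Q))).map (resK Q) ≤
        commutator (orth Q) := by
      rw [commutator_def, commutator_def, Subgroup.map_commutator]
      exact Subgroup.commutator_mono le_top le_top
    exact hle ⟨g, hg, rfl⟩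
  refine core_bot_of h hQ h7 h8 hl hh.out S₀ hS₀ A hinn hord hnin ?_ ?_
  · intro N hN H hH hnorm hexp k hk
    have hkK : ∃ kK, resK (h := h) (lam := lam) Q kK = k := by
      refine ⟨⟨
        { toFun := fun v => (k.1 (toV v) : V)
          invFun := fun v => (k.1.symm (toV v) : V)
          map_add' := fun u v => k.1.map_add _ _
          map_smul' := fun z v => by
            show (k.1 (z.re • (toV v) + z.im • h (toV v)) : V) =
              (z.re • k.1 (toV v) + z.im • h (k.1 (toV v)) : V)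
            rw [map_add, map_smul, map_smul, hH hk]
          left_inv := fun v => k.1.symm_apply_apply _
          right_inv := fun v => k.1.apply_symm_apply _ }, fun v => ?_⟩, orth_ext fun _ => rfl⟩
      rw [qK_apply, qK_apply]
      ext
      · exact k.2 _
      · show polar Q (k.1 (toV v)) (h (k.1 (toV v))) / _ = _
        rw [← hH hk]
        congr 1
        simp only [polar, ← map_add]
        rw [k.2, k.2, k.2]
    obtain ⟨kK, rfl⟩ := hkK
    have hpm := isPM_of_odd_normal hndK hK2 (Or.inr h5) (H.comap (resK Q))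
      (fun g hg u hu => by
        show resK Q (g * u * g⁻¹) ∈ H
        rw [map_mul, map_mul, map_inv]
        exact hnorm _ (hmem g hg) (resK_mem_cen Q g) _ hu) hN
      (fun u hu => by
        rcases hexp _ (show resK Q u ∈ H from hu) with h' | h' <;> rw [← map_pow] at h'
        · exact Or.inl h'
        · exact Or.inr h') hk
    refine Or.inl ?_
    rcases hpm with h' | h'
    · exact aut_eq_one_of_smul hQ h7 one_ne_zero fun v => by rw [one_smul]; exact h' v
    · exact aut_eq_one_of_smul hQ h7 (neg_ne_zero.2 one_ne_zero) fun v => by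
        rw [neg_one_smul]; exact h' v
  · intro S hS hν
    obtain ⟨ν, -, hν⟩ := hν
    have hcomm : ∀ (e u : VK h lam) (hu : SPair (qK Q) e u) (y : VK h lam),
        ofV (S.toAdd (toV ((rho hu).1 y))) = (rho hu).1 (ofV (S.toAdd (toV y))) := by
      intro e u hu y
      have hu2 : SPair (qK Q) e ((2 : FK lam)⁻¹ • u) :=
        ⟨hu.sing, by rw [polar_smul_right, hu.perp, smul_zero]⟩
      have hsq' : rho hu = rho hu2 * rho hu2 := by
        rw [rho_mul]
        exact rho_congr _ _ rfl (by rw [← add_smul, ← two_mul, mul_inv_cancel₀ hK2, one_smul])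
      have := hS _ (hmem _ (rho_mem hu2)) (resK_mem_cen Q _) y
      rw [← map_mul, ← hsq'] at this
      exact this
    -- `S` commutes with `h`
    obtain ⟨e, f, hp⟩ := exists_hyp hndK (by omega)
    have hfc := hp.finrank_core
    have : Nontrivial (core (qK Q) e f) := Module.nontrivial_of_finrank_pos (R := FK lam) (by omega)
    obtain ⟨⟨u, hu⟩, hu0⟩ := exists_ne (0 : core (qK (h := h) (lam := lam) Q) e f)
    have hu0' : u ≠ 0 := fun h0 => hu0 (Subtype.ext h0)
    have hsp : ∀ z : FK lam, SPair (qK Q) e (z • u) := fun z =>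
      ⟨hp.left, by rw [polar_smul_right, (mem_core.mp hu).1, smul_zero]⟩
    let L : FK lam → VK h lam → VK h lam := fun z y =>
      (rho (hsp z)).1 y - (rho (hsp (-z))).1 y
    have hLval : ∀ z y, L z y =
        z • ((2 : FK lam) • (polar (qK Q) e y • u - polar (qK Q) u y • e)) := fun z y => by
      show (rho _).1 y - (rho _).1 y = _
      simp only [rho_apply, polar_smul_left, Q_smul, smul_eq_mul]
      module
    have hLS : ∀ z y, ofV (S.toAdd (toV (L z y))) =
        L z (ofV (S.toAdd (toV y))) := fun z y => by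
      show ofV (S.toAdd ((toV ((rho (hsp z)).1 y)) - (toV ((rho (hsp (-z))).1 y)))) = _
      rw [map_sub]
      exact congrArg₂ (· - ·) (hcomm _ _ (hsp z) y) (hcomm _ _ (hsp (-z)) y)
    set ω : FK lam := QuadraticAlgebra.omega
    have hν1 : ν = 1 := by
      obtain ⟨y, hy⟩ := S.toAdd.surjective (toV f)
      have h1 : L 1 (ω • (ofV (h := h) (lam := lam) y)) = L ω (ofV (h := h) (lam := lam) y) := by
        simp only [hLval, polar_smul_right, smul_eq_mul, one_smul]; module
      have h3 := hLS 1 (ω • (ofV (h := h) (lam := lam) y))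
      rw [h1, hLS, toV_ofV, hy, ofV_toV] at h3
      have h4 : ofV (S.toAdd (toV (ω • (ofV (h := h) (lam := lam) y)))) =
          (algebraMap F (FK lam) ν * ω) • f := by
        rw [mul_smul, algebraMap_smul_vk, omega_smul, omega_smul, toV_ofV, toV_ofV, hν, hy]
        rfl
      rw [h4, hLval, hLval, polar_smul_right, polar_smul_right, hp.pol, polar_comm _ u f,
        (mem_core.mp hu).2] at h3
      simp only [smul_eq_mul, mul_one, mul_zero, zero_smul, sub_zero, one_smul, smul_smul] at h3
      have h5 := smul_left_injective (FK lam) hu0' h3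
      rw [show (2 : FK lam) = algebraMap F (FK lam) 2 from (map_ofNat _ 2).symm] at h5
      have h6 := congrArg QuadraticAlgebra.im h5
      simp [ω] at h6
      have : (2 : F) * (ν - 1) = 0 := by linear_combination -h6
      exact sub_eq_zero.1 ((mul_eq_zero.1 this).resolve_left h2)
    subst hν1
    simp only [one_smul] at hν
    have : Nontrivial V := Module.nontrivial_of_finrank_pos (R := F) (by omega)
    obtain ⟨v₀, hv₀⟩ := exists_ne (0 : V)
    have hτl : S.τ lam = lam := by
      have h1 := congrArg S.toAdd (hh.out v₀)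
      rw [hν, hν, hh.out, S.map_smul'] at h1
      exact (smul_left_injective F (fun h0 => hv₀ (S.toAdd.injective
        (h0.trans (map_zero _).symm))) h1).symm
    let τK : FK lam ≃+* FK lam :=
      { toFun := fun z => ⟨S.τ z.re, S.τ z.im⟩
        invFun := fun z => ⟨S.τ.symm z.re, S.τ.symm z.im⟩
        left_inv := fun z => by ext <;> simp
        right_inv := fun z => by ext <;> simp
        map_add' := fun z w => by ext <;> simp
        map_mul' := fun z w => by ext <;> simp [hτl] }
    let SK : Semisim (qK (h := h) (lam := lam) Q) :=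
      { toAdd := S.toAdd
        τ := τK
        c := algebraMap F (FK lam) S.c
        c_ne := (map_ne_zero _).2 S.c_ne
        map_smul' := fun z v => by
          show (S.toAdd (z.re • (toV v) + z.im • h (toV v)) : V) =
            (S.τ z.re • S.toAdd (toV v) + S.τ z.im • h (S.toAdd (toV v)) : V)
          rw [map_add, S.map_smul', S.map_smul', hν]
        map_Q' := fun v => by
          ext
          · show Q (S.toAdd (toV v)) = _
            rw [S.map_Q']
            simp [τK, qK_apply, qKFun]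
          · show polar Q (S.toAdd (toV v)) (h (S.toAdd (toV v))) / (2 * lam) = _
            rw [← hν, S.map_polar]
            simp [τK, qK_apply, qKFun, hτl, mul_div_assoc, map_ofNat] }
    obtain ⟨l, hl0, hτ, hlv⟩ := scalar_of_commute hndK (by omega) SK hcomm
    have hSv : ∀ v, S.toAdd v = l.re • v + l.im • h v := fun v => hlv v
    have hab : l.re * l.im = 0 := by
      obtain ⟨w, hw⟩ := exists_Q_ne_zero hndK hu0'
      have h1 := SK.map_Q' w
      rw [hlv, Q_smul, hτ] at h1
      have h3 := congrArg QuadraticAlgebra.im (mul_right_cancel₀ hw h1)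
      simp [SK] at h3
      have : (2 : F) * (l.re * l.im) = 0 := by linear_combination h3
      exact (mul_eq_zero.1 this).resolve_left h2
    have haut : S.aut = 1 ∨ S.aut = S₀.aut := by
      rcases mul_eq_zero.1 hab with ha | hb
      · right
        have hb : l.im ≠ 0 := fun hb => hl0 (by ext <;> simp [ha, hb])
        rw [aut_congr' (T := Semisim.scalar (Units.mk0 _ hb) * S₀) fun v => by
          rw [hSv, ha, zero_smul, zero_add, Semisim.mul_toAdd, Semisim.scalar_toAdd, hS₀]; rfl]
        show Semisim.autHom _ = _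
        rw [map_mul, show Semisim.autHom (Semisim.scalar (Q := Q) (Units.mk0 _ hb)) = 1 from
          aut_eq_one_of_smul hQ h7 hb fun v => Semisim.scalar_toAdd _ v, one_mul]
        rfl
      · left
        have ha : l.re ≠ 0 := fun ha => hl0 (by ext <;> simp [ha, hb])
        exact aut_eq_one_of_smul hQ h7 ha fun v => by rw [hSv, hb, zero_smul, add_zero]
    left
    rcases haut with h' | h' <;> rw [h']
    · exact one_mul 1
    · rw [← _root_.sq, ← hord, pow_orderOf_eq_one]

end TypeII

end Cfsg.Agent.Lib.OrthBalance
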