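import Cfsg.Agent.Lib.OrthBalance.Improper
import Cfsg.Agent.Lib.OrthField.EvenSplit
import Mathlib.RingTheory.Norm.Transitivity
import Mathlib.Algebra.QuadraticAlgebra.NormDeterminant

/-!
The improper involutions of the minus model, and the absence of involutory field automorphisms.
-/

set_option autoImplicit false

namespace Cfsg.Agent.Lib.OrthBalance

open Module QuadraticMap Cfsg.Agent.Lib.Forms Cfsg.Agent.Lib.OrthStd Cfsg.Agent.Lib.OrthOmega
open Cfsg.Agent.Lib.AutPOmega Cfsg.Agent.Lib.OrthField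
open scoped Matrix

/-! ### Determinants -/

section Det

variable {F : Type*} [Field F] {V : Type*} [AddCommGroup V] [Module F V] [FiniteDimensional F V]

theorem det_involution (h : V ≃ₗ[F] V) (h2 : (2 : F) ≠ 0) (hinv : ∀ v, h (h v) = v) :
    LinearMap.det h.toLinearMap = (-1) ^ finrank F (eig h (-1)) := by
  have hc : IsCompl (eig h 1) (eig h (-1)) := by
    refine ⟨?_, ?_⟩
    · rw [Submodule.disjoint_def]
      intro v h1 h3
      rw [mem_eig, one_smul] at h1
      rw [mem_eig, h1, neg_one_smul] at h3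
      have : (2 : F) • v = 0 := by rw [two_smul]; nth_rw 1 [h3]; exact neg_add_cancel v
      exact (smul_eq_zero.1 this).resolve_left h2
    · rw [codisjoint_iff_le_sup]
      intro v _
      have : v = (2 : F)⁻¹ • (v + h v) + (2 : F)⁻¹ • (v - h v) := by
        rw [← smul_add, show v + h v + (v - h v) = (2 : F) • v by module, inv_smul_smul₀ h2]
      rw [this]
      refine Submodule.add_mem_sup ((mem_eig h 1).2 ?_) ((mem_eig h (-1)).2 ?_)
      · rw [map_smul, map_add, hinv, one_smul, add_comm]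
      · rw [map_smul, map_sub, hinv, neg_one_smul, ← smul_neg, neg_sub]
  set e := Submodule.prodEquivOfIsCompl (eig h 1) (eig h (-1)) hc
  have he : h.toLinearMap = e.toLinearMap ∘ₗ
      (LinearMap.id.prodMap ((-1 : F) • LinearMap.id)) ∘ₗ e.symm.toLinearMap := by
    refine LinearMap.ext fun v => ?_
    obtain ⟨⟨⟨a, ha⟩, ⟨b, hb⟩⟩, rfl⟩ := e.surjective v
    rw [mem_eig, one_smul] at ha
    rw [mem_eig] at hb
    show h (e (_, _)) = e ((LinearMap.id.prodMap _) (e.symm (e _)))
    rw [e.symm_apply_apply]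
    simp [e, Submodule.coe_prodEquivOfIsCompl', ha, hb]
  rw [he, LinearMap.det_conj, LinearMap.det_prodMap, LinearMap.det_id, one_mul, LinearMap.det_smul,
    LinearMap.det_id, mul_one]

theorem det_root {lam : F} (hns : ∀ r : F, r * r ≠ lam) (h : V ≃ₗ[F] V)
    (hh : ∀ v, h (h v) = lam • v) :
    ∃ n, finrank F V = 2 * n ∧ LinearMap.det h.toLinearMap = (-lam) ^ n := by
  have : Fact (∀ v, h (h v) = lam • v) := ⟨hh⟩
  have : Fact (∀ r : F, r ^ 2 ≠ lam + 0 * r) :=
    ⟨fun r hr => hns r (by linear_combination hr)⟩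
  have : FiniteDimensional (FK lam) (VK h lam) :=
    Module.Finite.of_restrictScalars_finite F (FK lam) (VK h lam)
  refine ⟨finrank (FK lam) (VK h lam), ?_, ?_⟩
  · have h1 := Module.finrank_mul_finrank F (FK lam) (VK h lam)
    rw [QuadraticAlgebra.finrank_eq_two] at h1
    exact h1.symm
  · set ω : FK lam := QuadraticAlgebra.omega
    set f : VK h lam →ₗ[FK lam] VK h lam := ω • LinearMap.id with hf
    have h1 : LinearMap.det h.toLinearMap = LinearMap.det (f.restrictScalars F) := by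
      refine congrArg (LinearMap.det (A := F) (M := V)) (LinearMap.ext fun v => ?_)
      show h v = toV (ω • ofV (h := h) (lam := lam) v)
      rw [fk_smul]
      simp [ω, toV_ofV]
      rfl
    have h3 : Algebra.norm F ω = -lam := by
      rw [Algebra.norm_apply, show Algebra.lmul F (FK lam) ω =
        DistribSMul.toLinearMap F (FK lam) ω from LinearMap.ext fun _ => rfl,
        QuadraticAlgebra.det_toLinearMap_eq_norm, QuadraticAlgebra.norm_def]
      simp [ω]
    rw [h1, LinearMap.det_restrictScalars, hf, LinearMap.det_smul, LinearMap.det_id, mul_one,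
      map_pow, h3]

end Det

variable {F : Type*} [Field F] [Finite F]

/-- No involutory field automorphism fixes the coefficients of an anisotropic binary form. -/
theorem no_field_involution {σ : F ≃+* F} (hσ : orderOf σ = 2) {a b : F} (ha : σ a = a)
    (hb : σ b = b) (hab : Aniso a b) : False := by
  set K₀ := Cfsg.Agent.Lib.AutPSL.fixField σ
  have hj : ∀ t, σ t = t ↔ t ∈ Set.range K₀.subtype := fun t =>
    ⟨fun h => ⟨⟨t, h⟩, rfl⟩, fun ⟨y, hy⟩ => hy ▸ y.2⟩
  obtain ⟨a₀, ha₀⟩ := (hj a).1 ha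
  obtain ⟨b₀, hb₀⟩ := (hj b).1 hb
  subst ha₀ hb₀
  refine not_aniso_two hσ hj (a₀ := a₀) (b₀ := b₀) (fun z₁ z₂ hz => ?_) hab
  have h := hab (K₀.subtype z₁) (K₀.subtype z₂) (by
    rw [← map_pow, ← map_pow, ← map_mul, ← map_mul, ← map_mul, ← map_add, ← map_add, hz, map_zero])
  exact ⟨K₀.subtype_injective (h.1.trans (map_zero _).symm),
    K₀.subtype_injective (h.2.trans (map_zero _).symm)⟩

variable {m : ℕ} {a b : F}

/-- No involution of the minus group has a field part of order two. -/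
theorem no_semisim_two (hm : 3 ≤ m) (hab : Aniso a b) (S : Semisim (qMinusC m a b))
    (hτ : orderOf S.τ = 2) (hS : S.aut * S.aut = 1) : False := by
  classical
  set D := DMinus hm hab
  set τ := S.τ
  obtain ⟨l, hl0, hl⟩ := aut_eq_aut D.nd D.h7' (A := 1) (B := S * S) (by
    show Semisim.autHom _ = Semisim.autHom _
    rw [map_one, map_mul]; exact hS.symm)
  simp only [Semisim.mul_toAdd, Semisim.one_toAdd] at hl
  obtain ⟨v₀, hv₀⟩ := D.exists_ne
  have hv₀' : v₀ ≠ 0 := fun h => hv₀ (by rw [h, D.hf, QuadraticMap.map_zero])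
  have hSv : ∀ v, v ≠ 0 → S.toAdd v ≠ 0 := fun v hv h =>
    hv (S.toAdd.injective (h.trans (map_zero _).symm))
  have hτl : τ l = l := by
    have h1 := congrArg S.toAdd (hl v₀)
    rw [hl, S.map_smul'] at h1
    exact (smul_left_injective F (hSv v₀ hv₀') h1).symm
  obtain ⟨z, hz⟩ := Cfsg.Agent.Lib.AutPSL.exists_tnorm_eq hτ two_pos
    (c := (Units.mk0 l hl0)⁻¹) (by rw [map_inv]; congr 1; exact Units.ext hτl)
  have hz' : (z : F) * τ z * l = 1 := by
    have h1 := congrArg Units.val hz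
    simp [Cfsg.Agent.Lib.AutPSL.tnorm, Cfsg.Agent.Lib.AutPSL.mapUnits] at h1
    rw [h1, inv_mul_cancel₀ hl0]
  set T := Semisim.scalar z * S
  have hTT : ∀ v, T.toAdd (T.toAdd v) = v := fun v => by
    simp only [T, Semisim.mul_toAdd, Semisim.scalar_toAdd]
    rw [S.map_smul', hl, smul_smul, smul_smul, hz', one_smul]
  have hTτ : ∀ t, T.τ t = τ t := fun _ => rfl
  -- descent of the underlying linear maps
  have hM : ∀ v, (T.mat : Matrix ((Fin m ⊕ Fin m) ⊕ Fin 2) ((Fin m ⊕ Fin m) ⊕ Fin 2) F) *ᵥ (fun i => τ (v i)) = T.toAdd v := fun v => T.mat_apply v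
  have hN : Cfsg.Agent.Lib.AutPSL.tnorm (Cfsg.Agent.Lib.AutPSL.mapGL τ) T.mat 2 = 1 := by
    have h1 : T.mat * Cfsg.Agent.Lib.AutPSL.mapGL τ T.mat = 1 :=
      Units.ext (Matrix.ext_of_mulVec_single fun i => by
        rw [Units.val_mul, ← Matrix.mulVec_mulVec, Units.val_one, Matrix.one_mulVec]
        set w : (Fin m ⊕ Fin m) ⊕ Fin 2 → F := Pi.single i 1
        have hw : (fun i => τ (w i)) = w := by
          funext k; by_cases hk : k = i
          · subst hk; simp [w]
          · simp [w, hk]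
        have hww : ((Cfsg.Agent.Lib.AutPSL.mapGL τ T.mat : GL _ F) : Matrix ((Fin m ⊕ Fin m) ⊕ Fin 2) ((Fin m ⊕ Fin m) ⊕ Fin 2) F) *ᵥ w =
            fun i => τ (((T.mat : Matrix ((Fin m ⊕ Fin m) ⊕ Fin 2) ((Fin m ⊕ Fin m) ⊕ Fin 2) F) *ᵥ w) i) := by
          conv_lhs => rw [← hw]
          exact OF.map_mulVec_comp τ _ w
        rw [hww, hM]
        have h3 := hM w
        rw [hw] at h3
        rw [h3, hTT])
    simpa [Cfsg.Agent.Lib.AutPSL.tnorm] using h1
  obtain ⟨g, hg⟩ := Cfsg.Agent.Lib.AutPSL.exists_descent hτ two_pos hN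
  set h := glEquiv g with hhdef
  have hfix : ∀ u, T.toAdd (h u) = h fun i => τ (u i) := fun u => by
    rw [← hM, glEquiv_apply, glEquiv_apply]
    rw [show (fun i => τ (((g : Matrix ((Fin m ⊕ Fin m) ⊕ Fin 2) ((Fin m ⊕ Fin m) ⊕ Fin 2) F) *ᵥ u) i)) =
      ((Cfsg.Agent.Lib.AutPSL.mapGL τ g : GL _ F) : Matrix ((Fin m ⊕ Fin m) ⊕ Fin 2) ((Fin m ⊕ Fin m) ⊕ Fin 2) F) *ᵥ (fun i => τ (u i)) from
        (OF.map_mulVec_comp τ _ u).symm, Matrix.mulVec_mulVec, ← Units.val_mul, hg]
    simp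
  -- normalise the form
  have hc : T.c * τ T.c = 1 := by
    have h1 := congrArg (qMinusC m a b) (hTT v₀)
    have hQv : qMinusC m a b v₀ ≠ 0 := fun h0 => hv₀ (by rw [D.hf]; exact h0)
    rw [T.map_Q', T.map_Q', map_mul] at h1
    simp only [hTτ] at h1
    have h2 : τ (τ (qMinusC m a b v₀)) = qMinusC m a b v₀ := by
      have : (τ ^ 2) (qMinusC m a b v₀) = qMinusC m a b v₀ := by
        rw [show τ ^ 2 = 1 by rw [← hτ, pow_orderOf_eq_one]]; rfl
      rwa [pow_two, RingAut.mul_apply] at this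
    rw [h2] at h1
    exact mul_right_cancel₀ hQv (by linear_combination h1)
  obtain ⟨e, he0, he⟩ : ∃ e : F, e ≠ 0 ∧ T.c * τ e = e := by
    by_contra hno
    push Not at hno
    obtain ⟨t, ht⟩ : ∃ t, τ t ≠ t := by
      by_contra h'
      push Not at h'
      rw [show τ = 1 from RingEquiv.ext h', orderOf_one] at hτ
      omega
    have h2 : ∀ x, τ (τ x) = x := fun x => by
      have : (τ ^ 2) x = x := by rw [show τ ^ 2 = 1 by rw [← hτ, pow_orderOf_eq_one]]; rfl
      rwa [pow_two, RingAut.mul_apply] at this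
    have key : ∀ t, t + T.c * τ t = 0 := fun t => by
      by_contra hne
      exact hno _ hne (by rw [map_add, map_mul, h2]; linear_combination τ t * 0 + t * hc)
    have h1 := key 1
    have h3 := key t
    rw [map_one, mul_one] at h1
    exact ht (by linear_combination -h3 + τ t * h1)
  set f' : (((Fin m ⊕ Fin m) ⊕ Fin 2 → F) → F) := fun u => e⁻¹ * qMinusC m a b (h u)
  let D' : OF f' :=
    { Q := e⁻¹ • (qMinusC m a b).comp h.toLinearMap
      hf := fun u => rfl
      nd := fun x hx => by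
        have h1 : h x = 0 := D.nd _ fun y => by
          obtain ⟨w, rfl⟩ := h.surjective y
          have h2 := hx w
          simp only [polar, QuadraticMap.smul_apply, QuadraticMap.comp_apply, LinearEquiv.coe_coe,
            map_add, smul_eq_mul, ← mul_sub] at h2
          exact (mul_eq_zero.1 h2).resolve_left (inv_ne_zero he0)
        exact h.map_eq_zero_iff.1 h1
      h7 := D.h7 }
  have hF' : Fixes f' τ := fun u => by
    show e⁻¹ * qMinusC m a b (h fun i => τ (u i)) = τ (e⁻¹ * qMinusC m a b (h u))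
    rw [← hfix, T.map_Q', map_mul, map_inv₀, hTτ]
    have hτe : τ e ≠ 0 := (map_ne_zero τ).2 he0
    field_simp
    linear_combination (τ (qMinusC m a b (h u))) * he
  set K₀ := Cfsg.Agent.Lib.AutPSL.fixField τ
  have hj : ∀ t, τ t = t ↔ t ∈ Set.range K₀.subtype := fun t =>
    ⟨fun h => ⟨⟨t, h⟩, rfl⟩, fun ⟨y, hy⟩ => hy ▸ y.2⟩
  obtain ⟨g', Q₀, -, hQ₀, ⟨X⟩⟩ := exists_rat D' hF' (g := 1) hτ two_pos hj (by
    rw [map_one, one_mul, D'.fieldQ_pow, D'.fieldQ_congr (show τ ^ 2 = 1 by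
      rw [← hτ, pow_orderOf_eq_one]) _ Fixes.one, D'.fieldQ_one])
  have hjf : ∀ t, τ (K₀.subtype t) = K₀.subtype t := fun t => (hj _).2 ⟨t, rfl⟩
  obtain ⟨a₀, b₀, r, hab₀, hr, -, ha₀, hb₀⟩ := exists_aniso_root hτ hj
  -- either model is of plus type over `F`
  have hplus : ∃ (I : (Fin (m + 1) ⊕ Fin (m + 1) → F) ≃ₗ[F] ((Fin m ⊕ Fin m) ⊕ Fin 2 → F)) (w : F),
      w ≠ 0 ∧ ∀ u, f' (I u) = w * qPlus (m + 1) u := by
    rcases exists_even_model (hkMinus m) hQ₀ hab₀ with ⟨i, hi⟩ | ⟨i, hi⟩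
    · let X₂ := X.change hjf _ i 1 one_ne_zero hi
      refine ⟨X₂.h, X₂.w, X₂.hw, fun u => ?_⟩
      rw [D'.hf]
      refine DFunLike.congr_fun (qf_ext_rat K₀.subtype (R := D'.Q.comp X₂.h.toLinearMap)
        (R' := X₂.w • qPlus (m + 1)) fun v => ?_) u
      show D'.Q (X₂.h (⇑K₀.subtype ∘ v)) = X₂.w * qPlus (m + 1) (⇑K₀.subtype ∘ v)
      rw [← D'.hf, X₂.val, ← quadFormPlus_eq]
      simp [Cfsg.quadFormPlus, map_sum]
    · let X₂ := X.change hjf _ i 1 one_ne_zero hi
      refine ⟨(hypMap (Ne.symm hr)).symm.trans X₂.h, X₂.w, X₂.hw, fun u => ?_⟩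
      obtain ⟨v, rfl⟩ := (hypMap (n := m) (Ne.symm hr)).surjective u
      rw [LinearEquiv.trans_apply, LinearEquiv.symm_apply_apply, hypMap_form (Ne.symm hr) ha₀ hb₀,
        D'.hf]
      refine DFunLike.congr_fun (qf_ext_rat K₀.subtype (R := D'.Q.comp X₂.h.toLinearMap)
        (R' := X₂.w • qMinusC m _ _) fun v => ?_) v
      show D'.Q (X₂.h (⇑K₀.subtype ∘ v)) = X₂.w * qMinusC m _ _ (⇑K₀.subtype ∘ v)
      rw [← D'.hf, X₂.val, ← quadFormMinus_eq]
      simp [Cfsg.quadFormMinus, map_sum]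
  obtain ⟨I, w, hw, hI⟩ := hplus
  refine plus_ne_minus hab (I.trans h).symm (fun u => ?_) (inv_ne_zero (mul_ne_zero hw he0))
  obtain ⟨v, rfl⟩ := (I.trans h).surjective u
  rw [LinearEquiv.symm_apply_apply, LinearEquiv.trans_apply]
  have h1 : e⁻¹ * qMinusC m a b (h (I v)) = w * qPlus (m + 1) v := hI v
  field_simp at h1 ⊢
  linear_combination -h1

set_option maxHeartbeats 1000000 in
/-- An odd similarity involution of an even-dimensional form without large singular subspaces. -/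
theorem core_bot_odd_similar {ι : Type} [Fintype ι] [DecidableEq ι] {f : (ι → F) → F} (D : OF f)
    (hk : Fintype.card ι = 2 * (m + 1)) (h8 : NoTriality D.Q)
    (hsing' : ∀ U : Submodule F (ι → F), (∀ v ∈ U, D.Q v = 0) → finrank F U ≤ m)
    (h2 : (2 : F) ≠ 0) {g : GS f} (hg : D.chi hk g ≠ 1) (hord : orderOf (D.conjQ g) = 2)
    (A : Subgroup (MulAut (Cfsg.POmega F f))) (hinn : ∀ k, MulAut.conj k ∈ A) :
    Cfsg.pPrimeCore 2 ↥(A ⊓ Subgroup.centralizer {D.conjQ g}) = ⊥ := by
  classical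
  have hnin : D.conjQ g ∉ Cfsg.Inn (Cfsg.POmega F f) := fun h => hg (by
    obtain ⟨y, hy, he⟩ := D.inn_le_rot hk h
    obtain ⟨z, rfl⟩ := D.conjQ_eq_iff.1 he
    rw [map_mul, D.chi_scal, one_mul]
    exact hy)
  obtain ⟨e⟩ := centralizer_map_equiv D.toPG' A (D.conjQ g)
  rw [Cfsg.Agent.Lib.AutPSL.pPrimeCore_eq_bot_iff_of_equiv e, D.toPG_conjQ]
  have hinn' : ∀ y, MulAut.conj y ∈ A.map D.toPG'.toMonoidHom := fun y => by
    obtain ⟨k, hk⟩ := (pOmegaEquiv D.Q D.nd D.h5' D.hf).surjective y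
    refine ⟨MulAut.conj k, hinn k, MulEquiv.ext fun z => ?_⟩
    show toPG D.nd D.h5' D.hf (MulAut.conj k) z = y * z * y⁻¹
    rw [toPG_apply, MulAut.conj_apply, map_mul, map_mul, map_inv, MulEquiv.apply_symm_apply, hk]
  have hord' : orderOf (D.ofGS g).aut = 2 := by
    rw [← D.toPG_conjQ, MulEquiv.orderOf_eq, hord]
  have hnin' : (D.ofGS g).aut ∉ (MulAut.conj : PG D.Q →* MulAut (PG D.Q)).range := by
    rintro ⟨y, hy⟩
    obtain ⟨k, hk⟩ := (pOmegaEquiv D.Q D.nd D.h5' D.hf).surjective y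
    refine hnin ⟨k, D.toPG'.injective (MulEquiv.ext fun z => ?_)⟩
    rw [D.toPG_conjQ, ← hy]
    show toPG D.nd D.h5' D.hf (MulAut.conj k) z = y * z * y⁻¹
    rw [toPG_apply, MulAut.conj_apply, map_mul, map_mul, map_inv, MulEquiv.apply_symm_apply, hk]
  set L : (ι → F) ≃ₗ[F] (ι → F) := glEquiv g.1
  have hL : ∀ v, (D.ofGS g).toAdd v = L v := fun v => by rw [D.ofGS_apply, glEquiv_apply]
  have hdet : LinearMap.det L.toLinearMap = -(D.mult g : F) ^ (m + 1) := by
    have h1 := (D.det_cases hk g).resolve_left fun h => hg ((D.chi_odd _ h2 g).2 h)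
    rw [← h1, show L.toLinearMap = Matrix.toLin' (g.1 : Matrix ι ι F) from
      LinearMap.ext fun v => by rw [Matrix.toLin'_apply]; exact glEquiv_apply g.1 v,
      LinearMap.det_toLin']
  have hsq := pow_orderOf_eq_one (D.conjQ g)
  rw [hord, _root_.sq, ← map_mul, D.conjQ_eq_one_iff] at hsq
  obtain ⟨z, hz⟩ := hsq
  have hLL : ∀ v, L (L v) = (z : F) • v := fun v => by
    rw [← D.coe_scal_mulVec, ← hz, glEquiv_apply, glEquiv_apply, Subgroup.coe_mul, Units.val_mul,
      Matrix.mulVec_mulVec]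
  have hcz : (D.mult g : F) * D.mult g = z * z := by
    rw [← Units.val_mul, ← map_mul, hz, D.mult_scal, Units.val_mul]
  have hQL : ∀ v, D.Q (L v) = (D.mult g : F) * D.Q v := fun v => by
    rw [glEquiv_apply, ← D.hf, ← D.hf, D.mult_spec]
  have hfr : finrank F (ι → F) = 2 * (m + 1) := by
    rw [finrank_fun, hk]
  by_cases hs : IsSquare (z : F)
  · obtain ⟨s, hs⟩ := hs
    have hs0 : s ≠ 0 := fun e => z.ne_zero (by rw [hs, e, mul_zero])
    set L' := L.trans (LinearEquiv.smulOfUnit (Units.mk0 s hs0)⁻¹)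
    have hL' : ∀ v, L' v = s⁻¹ • L v := fun v => by
      show (((Units.mk0 s hs0)⁻¹ : Fˣ) : F) • L v = _
      simp
    have hinv : ∀ v, L' (L' v) = v := fun v => by
      rw [hL', hL', map_smul, hLL, smul_smul, smul_smul, hs,
        show s⁻¹ * s⁻¹ * (s * s) = 1 by field_simp, one_smul]
    have hQL' : ∀ v, D.Q (L' v) = ((D.mult g : F) / z) * D.Q v := fun v => by
      rw [hL', Q_smul, hQL, hs]; field_simp
    have hdet' : LinearMap.det L'.toLinearMap = -((D.mult g : F) / z) ^ (m + 1) := by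
      rw [show L'.toLinearMap = s⁻¹ • L.toLinearMap from LinearMap.ext hL', LinearMap.det_smul, hfr,
        hdet, pow_mul, mul_neg, ← mul_pow, hs]
      congr 2
      field_simp
    rcases mul_self_eq_mul_self_iff.1 hcz with hc | hc
    · rw [hc, div_self z.ne_zero] at hQL' hdet'
      rw [one_pow, det_involution L' h2 hinv] at hdet'
      have hdm : Odd (finrank F (eig L' (-1))) :=
        Nat.not_even_iff_odd.1 fun he => h2 (by rw [he.neg_one_pow] at hdet'; linear_combination hdet')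
      have hsum := finrank_eig_add L' h2 hinv
      have hdp : Odd (finrank F (eig L' 1)) := by
        obtain ⟨i, hi⟩ := hdm
        rw [hfr] at hsum
        exact Nat.odd_iff.2 (by omega)
      have hQi : ∀ v, D.Q (L' v) = D.Q v := fun v => (hQL' v).trans (one_mul _)
      obtain ⟨p, hchar⟩ := CharP.exists F
      have hst := core_bot_typeI D.nd h2 D.h7' h8 L' hinv hQi
        (fun ε hε => by rcases hε with rfl | rfl; exacts [hdp, hdm])
        (Semisim.scalar (Units.mk0 s hs0)⁻¹ * D.ofGS g)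
        (fun v => by rw [Semisim.mul_toAdd, Semisim.scalar_toAdd, hL, hL']; simp)
        (A.map D.toPG'.toMonoidHom) hinn'
      have hTaut : (Semisim.scalar (Q := D.Q) (Units.mk0 s hs0)⁻¹ * D.ofGS g).aut = (D.ofGS g).aut := by
        show Semisim.autHom _ = _
        rw [map_mul, show Semisim.autHom (Semisim.scalar (Q := D.Q) (Units.mk0 s hs0)⁻¹) = 1 from
          aut_eq_one_of_smul D.nd D.h7' (Units.ne_zero _) fun v => Semisim.scalar_toAdd _ v,
          one_mul]
        rfl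
      rw [hTaut] at hst
      exact hst hord' hnin'
    · exfalso
      rw [hc, neg_div, div_self z.ne_zero] at hQL'
      have hsing : ∀ ε : F, ε = 1 ∨ ε = -1 → finrank F (eig L' ε) ≤ m := fun ε hε => by
        refine hsing' _ fun v hv => ?_
        have h1 := hQL' v
        rw [(mem_eig L' ε).1 hv, Q_smul,
          show ε * ε = 1 by rcases hε with rfl | rfl <;> ring] at h1
        exact (mul_eq_zero.1 (show (2 : F) * D.Q v = 0 by linear_combination h1)).resolve_left h2
      have hsum := finrank_eig_add L' h2 hinv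
      have h1 := hsing 1 (.inl rfl)
      have h3 := hsing (-1) (.inr rfl)
      rw [hfr] at hsum
      omega
  · obtain ⟨n, hn, hdn⟩ := det_root (fun r hr => hs ⟨r, hr.symm⟩) L hLL
    obtain rfl : n = m + 1 := by omega
    rw [hdn] at hdet
    have hne : (z : F) ^ (m + 1) ≠ 0 := pow_ne_zero _ z.ne_zero
    rcases mul_self_eq_mul_self_iff.1 hcz with hc | hc
    · have hodd : Odd (m + 1) := Nat.not_even_iff_odd.1 fun he => h2 (by
        rw [hc, he.neg_pow] at hdet
        exact (mul_eq_zero.1 (show (2 : F) * (z : F) ^ (m + 1) = 0 by linear_combination hdet)).resolve_right hne)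
      have : Fact (∀ v, L (L v) = (z : F) • v) := ⟨hLL⟩
      have : Fact (∀ v, D.Q (L v) = (z : F) * D.Q v) := ⟨fun v => (hQL v).trans (by rw [hc])⟩
      have : Fact (∀ r : F, r ^ 2 ≠ (z : F) + 0 * r) :=
        ⟨fun r hr => hs ⟨r, by linear_combination -hr⟩⟩
      have : Fact ((2 : F) ≠ 0) := ⟨h2⟩
      exact core_bot_typeII (lam := (z : F)) D.Q D.nd D.h7' h8 hfr
        hodd (D.ofGS g) hL _ hinn' hord' hnin'
    · exfalso
      rw [hc] at hdet
      exact h2 ((mul_eq_zero.1 (show (2 : F) * (-(z : F)) ^ (m + 1) = 0 by linear_combination hdet)).resolve_right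
        (pow_ne_zero _ (neg_ne_zero.2 z.ne_zero)))

/-- **The improper case.** -/
theorem core_bot_graph (hm : 3 ≤ m) (hab : Aniso a b) (h2 : (2 : F) ≠ 0)
    {g : GS (Cfsg.quadFormMinus m F a b)} (hg : (DMinus hm hab).chi (hkMinus m) g ≠ 1)
    (hord : orderOf ((DMinus hm hab).conjQ g) = 2)
    (A : Subgroup (MulAut (Cfsg.POmega F (Cfsg.quadFormMinus m F a b))))
    (hinn : ∀ k, MulAut.conj k ∈ A) :
    Cfsg.pPrimeCore 2 ↥(A ⊓ Subgroup.centralizer {(DMinus hm hab).conjQ g}) = ⊥ :=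
  core_bot_odd_similar (DMinus hm hab) (hkMinus m) (AutPOmega.noTriality_minus hab)
    (fun _ hU => AutPOmega.finrank_sing_minus hab hU) h2 hg hord A hinn

end Cfsg.Agent.Lib.OrthBalance
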