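import Cfsg.Agent.Lib.AutPOmega.Group

/-!
Rigidity of orthogonal groups: what commutes with all Siegel transformations is scalar, and normal
subgroups that are of odd exponent modulo scalars are scalar.
-/

set_option autoImplicit false

namespace Cfsg.Agent.Lib.OrthBalance

open Module QuadraticMap Cfsg.Agent.Lib.Forms Cfsg.Agent.Lib.OrthOmega Cfsg.Agent.Lib.AutPOmega

variable {F : Type*} [Field F] {V : Type*} [AddCommGroup V] [Module F V] [FiniteDimensional F V]
  {Q : QuadraticForm F V}

/-- A semisimilarity commuting with the Siegel transformations fixes every singular line. -/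
theorem line_of_commute (hQ : Nondeg Q) (h3 : 3 ≤ finrank F V) (S : Semisim Q)
    (hS : ∀ (e u : V) (hu : SPair Q e u) (y : V), S.toAdd ((rho hu).1 y) = (rho hu).1 (S.toAdd y))
    {e : V} (he0 : e ≠ 0) (he : Q e = 0) : ∃ t : F, S.toAdd e = t • e := by
  obtain ⟨f, hp⟩ := exists_hypPair hQ he0 he
  have hcore : ∀ u ∈ core Q e f, u ≠ 0 →
      polar Q e (S.toAdd e) = 0 ∧ polar Q u (S.toAdd e) = 0 := by
    intro u hu hu0
    have hs : SPair Q e u := ⟨he, (mem_core.mp hu).1⟩
    have h := hS e u hs e
    rw [rho_fix hs hp.pol_ee ((polar_comm Q u e).trans (mem_core.mp hu).1), rho_apply,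
      add_sub_assoc, left_eq_add, sub_eq_zero] at h
    have h1 := congrArg (polar Q f) h
    rw [polar_smul_right, polar_smul_right, (mem_core.mp hu).2, hp.pol', smul_zero, smul_eq_mul,
      mul_one] at h1
    rw [← h1, zero_smul, smul_eq_zero] at h
    have h2 := h.resolve_right hu0
    rw [h2, mul_zero, add_zero] at h1
    exact ⟨h2, h1.symm⟩
  have hfr := hp.finrank_core
  have : Nontrivial (core Q e f) := Module.nontrivial_of_finrank_pos (R := F) (by omega)
  obtain ⟨u₀, hu₀⟩ := exists_ne (0 : core Q e f)
  have hb0 := (hcore u₀ u₀.2 fun h => hu₀ (Subtype.ext h)).1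
  refine ⟨polar Q f (S.toAdd e), ?_⟩
  have hw := hp.proj_mem (S.toAdd e)
  have h0 : (⟨_, hw⟩ : core Q e f) = 0 := by
    refine hp.nondeg_core hQ _ fun u => ?_
    rw [res_polar]
    by_cases hu0 : (u : V) = 0
    · rw [hu0, polar_zero_right]
    · rw [polar_comm, polar_sub_right, polar_sub_right, polar_smul_right, polar_smul_right,
        (hcore u u.2 hu0).2, hb0, polar_comm Q (u : V) e, (mem_core.mp u.2).1]
      simp
  have h1 : S.toAdd e - polar Q f (S.toAdd e) • e - polar Q e (S.toAdd e) • f = 0 :=
    congrArg Subtype.val h0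
  rw [hb0, zero_smul, sub_zero] at h1
  exact sub_eq_zero.mp h1

variable [Finite F]

/-- A semisimilarity commuting with the Siegel transformations is a scalar. -/
theorem scalar_of_commute (hQ : Nondeg Q) (h3 : 3 ≤ finrank F V) (S : Semisim Q)
    (hS : ∀ (e u : V) (hu : SPair Q e u) (y : V), S.toAdd ((rho hu).1 y) = (rho hu).1 (S.toAdd y)) :
    ∃ l : F, l ≠ 0 ∧ (∀ t, S.τ t = t) ∧ ∀ v, S.toAdd v = l • v := by
  obtain ⟨e, f, hp⟩ := exists_hyp hQ h3
  obtain ⟨α, hα⟩ := line_of_commute hQ h3 S hS hp.left_ne hp.left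
  obtain ⟨β, hβ⟩ := line_of_commute hQ h3 S hS hp.symm.left_ne hp.right
  have hα0 : α ≠ 0 := fun h0 => hp.left_ne (S.toAdd.injective (by
    rw [hα, h0, zero_smul, map_zero]))
  have hβ0 : β ≠ 0 := fun h0 => hp.symm.left_ne (S.toAdd.injective (by
    rw [hβ, h0, zero_smul, map_zero]))
  have hcore : ∀ w ∈ core Q e f, S.toAdd w = β • w ∧ S.τ (Q w) * α = Q w * β := by
    intro w hw
    obtain ⟨hw1, hw2⟩ := mem_core.mp hw
    have hne : (-Q w) • e + (1 : F) • f + w ≠ 0 := fun h => one_ne_zero (α := F) (by
      have := congrArg (polar Q e) h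
      simp only [polar_add_right, polar_smul_right, hp.pol, hp.pol_ee, hw1, polar_zero_right,
        smul_eq_mul] at this
      linear_combination this)
    obtain ⟨γ, hγ⟩ := line_of_commute hQ h3 S hS hne (by rw [hp.Q_comb_core _ _ hw]; ring)
    simp only [map_add, S.map_smul', map_neg, hα, hβ, one_smul] at hγ
    have e1 : polar Q e (S.toAdd w) = 0 := by
      have h := S.map_polar e w
      rw [hα, hw1, map_zero, mul_zero, polar_smul_left, smul_eq_mul] at h
      exact (mul_eq_zero.mp h).resolve_left hα0
    have f1 : polar Q f (S.toAdd w) = 0 := by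
      have h := S.map_polar f w
      rw [hβ, hw2, map_zero, mul_zero, polar_smul_left, smul_eq_mul] at h
      exact (mul_eq_zero.mp h).resolve_left hβ0
    have hE := congrArg (polar Q e) hγ
    have hF := congrArg (polar Q f) hγ
    simp only [polar_add_right, polar_smul_right, hp.pol, hp.pol_ee, hp.pol', hp.pol_ff, e1, f1,
      hw1, hw2, smul_eq_mul] at hE hF
    have hγβ : γ = β := by linear_combination -hE
    subst hγβ
    refine ⟨?_, by linear_combination -hF⟩
    have h5 : S.τ (Q w) * α = Q w * γ := by linear_combination -hF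
    rw [smul_add, smul_add, smul_smul, smul_smul] at hγ
    rw [show γ * -Q w = -S.τ (Q w) * α by linear_combination h5] at hγ
    exact add_left_cancel hγ
  have hfr := hp.finrank_core
  have : Nontrivial (core Q e f) := Module.nontrivial_of_finrank_pos (R := F) (by omega)
  obtain ⟨y₀, hy₀⟩ := exists_ne (0 : core Q e f)
  obtain ⟨⟨y, hy⟩, hQy⟩ := exists_Q_ne_zero (hp.nondeg_core hQ) hy₀
  replace hQy : Q y ≠ 0 := hQy
  have hy0 : y ≠ 0 := fun h => hQy (by rw [h, QuadraticMap.map_zero])
  have hτ : ∀ t, S.τ t = t := fun t => by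
    have h1 := (hcore _ ((core Q e f).smul_mem t hy)).1
    rw [S.map_smul', (hcore y hy).1, smul_smul, smul_smul] at h1
    exact mul_right_cancel₀ hβ0 ((smul_left_injective F hy0 h1).trans (mul_comm β t))
  have hαβ : α = β := by
    have h := (hcore y hy).2
    rw [hτ] at h
    exact mul_left_cancel₀ hQy h
  refine ⟨β, hβ0, hτ, fun x => ?_⟩
  have hx : x = polar Q f x • e + polar Q e x • f +
      (x - polar Q f x • e - polar Q e x • f) := by abel
  rw [hx, map_add, map_add, S.map_smul', S.map_smul', hτ, hτ, hα, hβ,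
    (hcore _ (hp.proj_mem x)).1, hαβ]
  module

/-! ### Normal subgroups of odd exponent modulo scalars -/

variable (Q) in
/-- `k` is `1` or `-1`. -/
def IsPM (k : orth Q) : Prop := (∀ x, k.1 x = x) ∨ ∀ x, k.1 x = -x

omit [FiniteDimensional F V] [Finite F] in
theorem isPM_pow_odd {k : orth Q} {N : ℕ} (hN : Odd N) (h : IsPM Q (k ^ N)) (hk : k * k = 1) :
    IsPM Q k := by
  obtain ⟨i, rfl⟩ := hN
  rwa [pow_succ, pow_mul, _root_.sq, hk, one_pow, one_mul] at h

/-- An involution of `EG Q` other than `±1`. -/
theorem exists_involution_EG (hQ : Nondeg Q) (h2 : (2 : F) ≠ 0) (h5 : 5 ≤ finrank F V) :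
    ∃ k ∈ EG Q, k * k = 1 ∧ ¬ IsPM Q k := by
  obtain ⟨e, f, hp⟩ := exists_hyp hQ (by omega)
  have hfr := hp.finrank_core
  obtain ⟨⟨b, hb⟩, hQb⟩ := exists_Q_eq (hp.nondeg_core hQ) (by omega) (1 : F)
  replace hQb : Q b = 1 := hQb
  have hQa : Q (e + f) = 1 := by rw [Q_add, hp.left, hp.right, hp.pol]; ring
  have hab : polar Q (e + f) b = 0 := by
    rw [polar_add_left, (mem_core.mp hb).1, (mem_core.mp hb).2, add_zero]
  have hba : polar Q b (e + f) = 0 := (polar_comm Q _ _).trans hab
  refine ⟨orefl Q (e + f) * orefl Q b, ?_, ?_, ?_⟩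
  · rw [← commutator_eq_EG hQ h5, ← Abelianization.ker_of, MonoidHom.mem_ker, map_mul,
      abelianization_orefl_eq hQ (v := b) (w := e + f) (t := 1) (by rw [hQb]; exact one_ne_zero)
        one_ne_zero (by rw [hQa, hQb]; ring)]
    exact abelianization_orefl_sq b
  · refine orth_ext fun x => ?_
    show refl Q (e + f) (refl Q b (refl Q (e + f) (refl Q b x))) = x
    simp only [refl_apply, hQa, hQb, inv_one, one_mul, polar_sub_right, polar_smul_right, hab, hba,
      polar_self', smul_eq_mul, mul_zero, sub_zero]
    module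
  · rintro (h | h)
    · have h1 := h b
      have h3 : refl Q (e + f) (refl Q b b) = b := h1
      simp only [refl_apply, hQa, hQb, inv_one, one_mul, polar_sub_right, polar_smul_right, hab,
        polar_self', smul_eq_mul, mul_zero, sub_zero, mul_one, zero_smul] at h3
      have h4 := congrArg (polar Q b) h3
      simp only [polar_sub_right, polar_smul_right, polar_self', hQb, smul_eq_mul, mul_one] at h4
      exact h2 (by
        have h5' : (2 : F) * 2 = 0 := by linear_combination -h4
        simpa using h5')
    · obtain ⟨⟨w, hw⟩, hQw⟩ := exists_Q_eq (hp.nondeg_core hQ) (by omega) (0 : F)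
      have hfr' := hp.finrank_core
      -- a core vector orthogonal to `b`
      let K : Submodule F (core Q e f) :=
        LinearMap.ker ((polarBilin Q b).comp (core Q e f).subtype)
      have hK : 0 < finrank F K := by
        have h1 := ((polarBilin Q b).comp (core Q e f).subtype).finrank_range_add_finrank_ker
        have h3 := Submodule.finrank_le
          (LinearMap.range ((polarBilin Q b).comp (core Q e f).subtype))
        rw [finrank_self] at h3
        show 0 < finrank F (LinearMap.ker ((polarBilin Q b).comp (core Q e f).subtype))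
        omega
      have : Nontrivial K := Module.nontrivial_of_finrank_pos (R := F) hK
      obtain ⟨⟨⟨x, hx⟩, hxb⟩, hx0⟩ := exists_ne (0 : K)
      have hxb' : polar Q b x = 0 := hxb
      have hxa : polar Q (e + f) x = 0 := by
        rw [polar_add_left, (mem_core.mp hx).1, (mem_core.mp hx).2, add_zero]
      have h3 : refl Q (e + f) (refl Q b x) = -x := h x
      simp only [refl_apply, hxb', hxa, mul_zero, zero_smul, sub_zero] at h3
      have h4 : (2 : F) • x = 0 := by rw [two_smul]; nth_rw 1 [h3]; exact neg_add_cancel x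
      exact hx0 (Subtype.ext (Subtype.ext ((smul_eq_zero.1 h4).resolve_left h2)))

/-- A subgroup normalised by `EG Q`, of odd exponent modulo `±1`, is `±1`. -/
theorem isPM_of_odd_normal [Finite V] (hQ : Nondeg Q) (h2 : (2 : F) ≠ 0)
    (hdim : finrank F V = 3 ∨ 5 ≤ finrank F V) (H : Subgroup (orth Q))
    (hH : ∀ g ∈ EG Q, ∀ k ∈ H, g * k * g⁻¹ ∈ H) {N : ℕ} (hN : Odd N)
    (hexp : ∀ k ∈ H, IsPM Q (k ^ N)) {k : orth Q} (hk : k ∈ H) : IsPM Q k := by
  classical
  have h3 : 3 ≤ finrank F V := by omega
  by_contra hcon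
  obtain ⟨z, hz, hzne⟩ : ∃ z, Q z = 0 ∧ ∀ t : F, k.1 z ≠ t • z := by
    by_contra hno
    push Not at hno
    exact hcon (scalar_of_lines hQ h3 hno)
  rcases hdim with hdim | h5
  · -- the orbit of a line would have the even size `q + 1`
    have hz0 : z ≠ 0 := fun h => hzne 0 (by rw [h, map_zero, smul_zero])
    obtain ⟨f, hp⟩ := exists_hypPair hQ hz0 hz
    have hfr := hp.finrank_core
    obtain ⟨⟨y, hy⟩, hy'⟩ := finrank_eq_one_iff'.1 (show finrank F (core Q z f) = 1 by omega)
    obtain ⟨hy0, hspan⟩ := hy'
    have hy0' : y ≠ 0 := fun h => hy0 (Subtype.ext h)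
    have hQy : Q y ≠ 0 := by
      intro h0
      refine hy0 (hp.nondeg_core hQ _ fun u => ?_)
      obtain ⟨c, hc⟩ := hspan u
      rw [← hc, res_polar]
      show polar Q y (c • y) = 0
      rw [polar_smul_right, polar_self', h0, mul_zero, smul_zero]
    let ρ : F → orth Q := fun t => rho (Q := Q) (e := z) (u := t • y)
      ⟨hp.left, by rw [polar_smul_right, (mem_core.mp hy).1, smul_zero]⟩
    let vt : F → V := fun t => (ρ t).1 f
    have hvt : ∀ t, vt t = f + t • y - (t * t * Q y) • z := fun t => by
      show (rho _).1 f = _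
      rw [rho_apply, hp.pol, one_smul, polar_smul_left, polar_comm Q y f, (mem_core.mp hy).2,
        Q_smul]
      simp
    let L : Set (Submodule F V) := {l | ∃ x, x ≠ 0 ∧ Q x = 0 ∧ l = Submodule.span F {x}}
    let φ : Option F → Submodule F V := fun o => o.elim (Submodule.span F {z})
      fun t => Submodule.span F {vt t}
    have hvt0 : ∀ t, vt t ≠ 0 := fun t h => by
      have := congrArg (polar Q z) ((hvt t).symm.trans h)
      simp [polar_sub_right, polar_add_right, polar_smul_right, hp.pol, hp.pol_ee,
        (mem_core.mp hy).1] at this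
    have hφL : ∀ o, φ o ∈ L := by
      rintro (_ | t)
      · exact ⟨z, hz0, hz, rfl⟩
      · exact ⟨vt t, hvt0 t, by show Q ((ρ t).1 f) = 0; rw [(ρ t).2, hp.right], rfl⟩
    have hsame : ∀ a b : V, Submodule.span F {a} = Submodule.span F {b} → ∃ c : F, a = c • b :=
      fun a b h => by
        obtain ⟨c, hc⟩ := Submodule.mem_span_singleton.1 (h ▸ Submodule.mem_span_singleton_self a :
          a ∈ Submodule.span F {b})
        exact ⟨c, hc.symm⟩
    have hpvt : ∀ t, polar Q z (vt t) = 1 ∧ polar Q y (vt t) = t * (2 * Q y) := fun t => by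
      rw [hvt]
      constructor <;> simp [polar_sub_right, polar_add_right, polar_smul_right, hp.pol, hp.pol_ee,
        (mem_core.mp hy).1, polar_comm Q y f, (mem_core.mp hy).2, polar_comm Q y z]
    have hφinj : Function.Injective φ := by
      rintro (_ | s) (_ | t) h
      · rfl
      · obtain ⟨c, hc⟩ := hsame _ _ h.symm
        have := congrArg (polar Q z) hc
        rw [(hpvt t).1, polar_smul_right, hp.pol_ee, smul_zero] at this
        exact absurd this one_ne_zero
      · obtain ⟨c, hc⟩ := hsame _ _ h
        have := congrArg (polar Q z) hc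
        rw [(hpvt s).1, polar_smul_right, hp.pol_ee, smul_zero] at this
        exact absurd this one_ne_zero
      · obtain ⟨c, hc⟩ := hsame _ _ h
        have e1 := congrArg (polar Q z) hc
        have e2 := congrArg (polar Q y) hc
        rw [(hpvt s).1, polar_smul_right, (hpvt t).1, smul_eq_mul, mul_one] at e1
        rw [(hpvt s).2, polar_smul_right, (hpvt t).2, ← e1, one_smul] at e2
        rw [mul_right_cancel₀ (mul_ne_zero h2 hQy) e2]
    have hφsurj : ∀ l ∈ L, ∃ o, φ o = l := by
      rintro l ⟨x, hx0, hx, rfl⟩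
      obtain ⟨c, hc⟩ := hspan ⟨_, hp.proj_mem x⟩
      have hc' : c • y = x - polar Q f x • z - polar Q z x • f := congrArg Subtype.val hc
      have hx' : x = polar Q f x • z + polar Q z x • f + c • y := by rw [hc']; abel
      have hQx := hp.Q_comb_core (polar Q f x) (polar Q z x) ((core Q z f).smul_mem c hy)
      rw [← hx', hx, Q_smul] at hQx
      by_cases hb : polar Q z x = 0
      · refine ⟨none, ?_⟩
        have hc0 : c = 0 := by
          have : c * c * Q y = 0 := by rw [hb, mul_zero, zero_add] at hQx; exact hQx.symm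
          simpa [hQy] using this
        rw [hb, hc0, zero_smul, zero_smul, add_zero, add_zero] at hx'
        have ha : polar Q f x ≠ 0 := fun h0 => hx0 (by rw [hx', h0, zero_smul])
        show Submodule.span F {z} = Submodule.span F {x}
        rw [hx', Submodule.span_singleton_smul_eq (IsUnit.mk0 _ ha)]
      · refine ⟨some (c / polar Q z x), ?_⟩
        show Submodule.span F {vt (c / polar Q z x)} = Submodule.span F {x}
        have : x = polar Q z x • vt (c / polar Q z x) := by
          rw [hvt]
          conv_lhs => rw [hx']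
          rw [smul_sub, smul_add, smul_smul, smul_smul, mul_div_cancel₀ _ hb,
            show polar Q z x * (c / polar Q z x * (c / polar Q z x) * Q y) = -polar Q f x by
              field_simp; linear_combination -hQx]
          module
        conv_rhs => rw [this, Submodule.span_singleton_smul_eq (IsUnit.mk0 _ hb)]
    let eL : Option F ≃ L := Equiv.ofBijective (fun o => ⟨φ o, hφL o⟩)
      ⟨fun a b h => hφinj (congrArg Subtype.val h), fun l => by
        obtain ⟨o, ho⟩ := hφsurj l l.2; exact ⟨o, Subtype.ext ho⟩⟩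
    -- the action on the singular lines
    let act : orth Q →* Equiv.Perm (Submodule F V) :=
      { toFun := fun g => (Submodule.orderIsoMapComap g.1).toEquiv
        map_one' := Equiv.ext fun l => Submodule.map_id l
        map_mul' := fun g g' => Equiv.ext fun l => Submodule.map_comp g'.1.toLinearMap g.1.toLinearMap l }
    have hspanmap : ∀ (g : orth Q) (x : V),
        act g (Submodule.span F {x}) = Submodule.span F {g.1 x} := fun g x => by
      show Submodule.map (g.1 : V →ₗ[F] V) _ = _
      rw [Submodule.map_span, Set.image_singleton]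
      rfl
    have hPM : ∀ g : orth Q, IsPM Q g → ∀ x : V, act g (Submodule.span F {x}) = Submodule.span F {x} :=
      fun g hg x => by
        rw [hspanmap]
        rcases hg with h | h
        · rw [h]
        · rw [h, show -x = (-1 : F) • x by simp,
            Submodule.span_singleton_smul_eq (IsUnit.mk0 _ (neg_ne_zero.2 one_ne_zero))]
    let actL : H →* Equiv.Perm L :=
      { toFun := fun g => ((act g.1).subtypeEquiv fun l => by
          constructor
          · rintro ⟨x, hx0, hx, rfl⟩
            exact ⟨g.1.1 x, fun h => hx0 (g.1.1.injective (h.trans (map_zero _).symm)),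
              (g.1.2 x).trans hx, hspanmap _ _⟩
          · rintro ⟨x, hx0, hx, he⟩
            refine ⟨g.1.1.symm x, fun h => hx0 (g.1.1.symm.injective (h.trans (map_zero _).symm)),
              by rw [← g.1.2, LinearEquiv.apply_symm_apply]; exact hx,
              (act g.1).injective (he.trans ?_)⟩
            rw [hspanmap, LinearEquiv.apply_symm_apply])
        map_one' := Equiv.ext fun l => Subtype.ext (Submodule.map_id _)
        map_mul' := fun g g' => Equiv.ext fun l => Subtype.ext
          (Submodule.map_comp g'.1.1.toLinearMap g.1.1.toLinearMap _) }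
    have : Finite L := Finite.of_equiv _ eL
    have hoddR : ¬ 2 ∣ Nat.card actL.range := fun h2d => by
      obtain ⟨⟨σ, g, rfl⟩, hσ⟩ := exists_prime_orderOf_dvd_card' 2 h2d
      have h1 : actL g ^ N = 1 := by
        rw [← map_pow]
        refine Equiv.ext fun ⟨l, hl⟩ => Subtype.ext ?_
        obtain ⟨x, -, -, rfl⟩ := hl
        exact hPM _ (hexp g g.2) x
      have h4 : orderOf (actL g) = 2 := (Subgroup.orderOf_coe (⟨_, g, rfl⟩ : actL.range)).trans hσ
      have := orderOf_dvd_of_pow_eq_one h1
      rw [h4] at this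
      exact Nat.not_even_iff_odd.2 hN (even_iff_two_dvd.2 this)
    set R := actL.range
    let ℓ : L := ⟨φ none, hφL none⟩
    -- every line is in the orbit
    obtain ⟨t₀, ht₀⟩ : ∃ t₀, φ (some t₀) = Submodule.span F {k.1 z} := by
      obtain ⟨o, ho⟩ := hφsurj _ ⟨k.1 z, fun h => hz0 (k.1.injective (h.trans (map_zero _).symm)),
        (k.2 z).trans hz, rfl⟩
      rcases o with _ | t₀
      · exfalso
        obtain ⟨c, hc⟩ := hsame _ _ ho.symm
        exact hzne c hc
      · exact ⟨t₀, ho⟩
    have horb : ∀ l : L, l ∈ MulAction.orbit R ℓ := by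
      intro l
      obtain ⟨o, rfl⟩ := eL.surjective l
      rcases o with _ | t
      · exact MulAction.mem_orbit_self ℓ
      · refine ⟨⟨actL (⟨ρ (t - t₀) * k * (ρ (t - t₀))⁻¹, hH _ (rho_mem _) _ hk⟩ : H), MonoidHom.mem_range.2 ⟨_, rfl⟩⟩, Subtype.ext ?_⟩
        show act (ρ (t - t₀) * k * (ρ (t - t₀))⁻¹) (Submodule.span F {z}) = φ (some t)
        have hfix : (ρ (t - t₀))⁻¹.1 z = z := by
          have hz' : (ρ (t - t₀)).1 z = z := rho_fix _ hp.pol_ee (by
            rw [polar_smul_left, polar_comm, (mem_core.mp hy).1, smul_zero])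
          show (ρ (t - t₀)).1.symm z = z
          rw [LinearEquiv.symm_apply_eq, hz']
        rw [map_mul, Equiv.Perm.mul_apply, hspanmap, hfix, map_mul, Equiv.Perm.mul_apply,
          hspanmap k z, ← ht₀]
        show act (ρ (t - t₀)) (Submodule.span F {vt t₀}) = _
        rw [hspanmap]
        show _ = Submodule.span F {vt t}
        congr 2
        show (ρ (t - t₀)).1 ((ρ t₀).1 f) = (ρ t).1 f
        rw [← orth_mul_apply, rho_mul]
        refine congrArg (fun g : orth Q => g.1 f) (rho_congr _ _ rfl ?_)
        rw [← add_smul, sub_add_cancel]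
    have hcard : Nat.card L = Nat.card F + 1 := by
      rw [← Nat.card_congr eL, Finite.card_option]
    have hdvd : Nat.card L ∣ Nat.card R := by
      have h1 := Nat.card_congr (MulAction.orbitEquivQuotientStabilizer R ℓ)
      rw [show MulAction.orbit R ℓ = Set.univ from Set.eq_univ_of_forall horb,
        Nat.card_coe_set_eq, Set.ncard_univ] at h1
      rw [h1]
      exact Subgroup.index_dvd_card _
    refine hoddR (dvd_trans ?_ hdvd)
    rw [hcard, ← even_iff_two_dvd, Nat.even_add_one, Nat.not_even_iff_odd]
    have := Fintype.ofFinite F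
    rw [Nat.card_eq_fintype_card]
    refine Nat.odd_iff.2 ((Nat.mod_two_eq_zero_or_one _).resolve_left fun h => h2 ?_)
    exact two_eq_zero_of_even (fun ho => by rw [Nat.odd_iff] at ho; omega)
  · obtain ⟨i, hiEG, hii, hnot⟩ := exists_involution_EG hQ h2 h5
    -- `H ⊓ EG` still moves a line
    obtain ⟨k', hk'H, hk'EG, e, he, hmove⟩ : ∃ k' ∈ H, k' ∈ EG Q ∧
        ∃ e, Q e = 0 ∧ ∀ t : F, k'.1 e ≠ t • e := by
      by_contra hno
      push Not at hno
      have hpm : ∀ k' ∈ H, k' ∈ EG Q → IsPM Q k' := fun k' h1 h1' =>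
        scalar_of_lines hQ h3 fun x hx => hno k' h1 h1' x hx
      have hS : ∀ (e u : V) (hu : SPair Q e u) (y : V),
          (Semisim.ofOrth k).toAdd ((rho hu).1 y) = (rho hu).1 ((Semisim.ofOrth k).toAdd y) := by
        intro e u hu y
        have hmem : k * rho hu * k⁻¹ * (rho hu)⁻¹ ∈ EG Q :=
          mul_mem ((EG_normal Q).conj_mem _ (rho_mem hu) k) (inv_mem (rho_mem hu))
        have hmemH : k * rho hu * k⁻¹ * (rho hu)⁻¹ ∈ H := by
          have := mul_mem hk (hH (rho hu) (rho_mem hu) _ (inv_mem hk))
          simpa only [mul_assoc] using this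
        rcases hpm _ hmemH hmem with h | h
        · have h1 : k * rho hu = rho hu * k := by
            rw [← mul_inv_eq_iff_eq_mul, ← mul_inv_eq_one]
            exact orth_ext h
          exact congrArg (fun g : orth Q => g.1 y) h1
        · exfalso
          have h1 : k * rho hu * k⁻¹ * (rho hu)⁻¹ = rho hu * (k * rho hu * k⁻¹ * (rho hu)⁻¹) *
              (rho hu)⁻¹ := by
            refine orth_ext fun x => ?_
            show _ = (rho hu).1 ((k * rho hu * k⁻¹ * (rho hu)⁻¹).1 ((rho hu)⁻¹.1 x))
            rw [h, h, map_neg]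
            congr 1
            exact ((rho hu).1.apply_symm_apply x).symm
          -- conjugates of `rho` fix too much to differ from it by `-1`
          have h3' : ∀ x, (k * rho hu * k⁻¹).1 x = -(rho hu).1 x := fun x => by
            have := h ((rho hu).1 x)
            rwa [orth_mul_apply, show ((rho hu)⁻¹ : orth Q).1 ((rho hu).1 x) = x from
              (rho hu).1.symm_apply_apply x] at this
          obtain ⟨x, hx0, hxe, hxu, hxe', hxu'⟩ : ∃ x : V, x ≠ 0 ∧ polar Q e x = 0 ∧
              polar Q u x = 0 ∧ polar Q (k.1 e) x = 0 ∧ polar Q (k.1 u) x = 0 := by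
            let Φ : V →ₗ[F] (Fin 4 → F) := LinearMap.pi ![polarBilin Q e, polarBilin Q u,
              polarBilin Q (k.1 e), polarBilin Q (k.1 u)]
            have h1 := Φ.finrank_range_add_finrank_ker
            have h4 := Submodule.finrank_le (LinearMap.range Φ)
            rw [finrank_fin_fun] at h4
            have : Nontrivial (LinearMap.ker Φ) :=
              Module.nontrivial_of_finrank_pos (R := F) (by omega)
            obtain ⟨⟨x, hx⟩, hx0⟩ := exists_ne (0 : LinearMap.ker Φ)
            rw [LinearMap.mem_ker] at hx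
            exact ⟨x, fun h0 => hx0 (Subtype.ext h0), congrFun hx 0, congrFun hx 1, congrFun hx 2,
              congrFun hx 3⟩
          have hfix : (rho hu).1 x = x := rho_fix hu hxe hxu
          have hfix' : (k * rho hu * k⁻¹).1 x = x := by
            rw [rho_conj]
            exact rho_fix _ hxe' hxu'
          have := h3' x
          rw [hfix', hfix] at this
          have h6 : (2 : F) • x = 0 := by rw [two_smul]; nth_rw 1 [this]; exact neg_add_cancel x
          exact hx0 ((smul_eq_zero.1 h6).resolve_left h2)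
      obtain ⟨l, -, -, hl⟩ := scalar_of_commute hQ h3 (Semisim.ofOrth k) hS
      exact hzne l (hl z)
    have hle := EG_le_of_moves hQ h5 (N := H ⊓ EG Q) inf_le_right
      (fun h hh n hn => ⟨hH h hh n hn.1, (EG_normal Q).conj_mem n hn.2 h⟩) ⟨hk'H, hk'EG⟩ he hmove
    exact hnot (isPM_pow_odd hN (hexp i (hle hiEG).1) hii)

end Cfsg.Agent.Lib.OrthBalance
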